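import Cfsg.Agent.Lib.DC.Thb.Defs

set_option autoImplicit false
set_option maxRecDepth 100000
set_option Elab.async false
set_option linter.unusedSectionVars false

namespace Cfsg.Agent.DC.Thb
open Cfsg.Agent.CG

theorem c0 : allLt (fun a => Nat.beq (iv a) (nth CG.TD4.invL 30 a)) 256 = true := by decide +kernel
theorem c1 : band (blt ivT (Nat.pow 2 2048)) (blt CG.TD4.invL.length 256) = true := by decide +kernel
theorem c2 : allLt (fun a => blt (iv a) 256) 256 = true := by decide +kernel
theorem c3 : rules.all (ruleChk iv rels0 lrels idx) = true := by decide +kernel
theorem c4 : allRange (chk CG.TD4.app iv CG.TD4.bs false facts nd rules) 0 61 = true := by decide +kernel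
theorem c5 : allRange (chk CG.TD4.app iv CG.TD4.bs false facts nd rules) 61 16 = true := by decide +kernel
theorem c6 : allRange (chk CG.TD4.app iv CG.TD4.bs false facts nd rules) 77 13 = true := by decide +kernel
theorem c7 : allRange (chk CG.TD4.app iv CG.TD4.bs false facts nd rules) 90 14 = true := by decide +kernel
theorem c8 : allRange (chk CG.TD4.app iv CG.TD4.bs false facts nd rules) 104 9 = true := by decide +kernel
theorem c9 : allRange (chk CG.TD4.app iv CG.TD4.bs false facts nd rules) 113 8 = true := by decide +kernel
theorem c10 : allRange (chk CG.TD4.app iv CG.TD4.bs false facts nd rules) 121 11 = true := by decide +kernel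
theorem c11 : allRange (chk CG.TD4.app iv CG.TD4.bs false facts nd rules) 132 14 = true := by decide +kernel
theorem c12 : allRange (chk CG.TD4.app iv CG.TD4.bs false facts nd rules) 146 12 = true := by decide +kernel
theorem c13 : allRange (chk CG.TD4.app iv CG.TD4.bs false facts nd rules) 158 15 = true := by decide +kernel
theorem c14 : allRange (chk CG.TD4.app iv CG.TD4.bs false facts nd rules) 173 11 = true := by decide +kernel
theorem c15 : allRange (chk CG.TD4.app iv CG.TD4.bs false facts nd rules) 184 8 = true := by decide +kernel
theorem c16 : allRange (chk CG.TD4.app iv CG.TD4.bs false facts nd rules) 192 12 = true := by decide +kernel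
theorem c17 : allRange (chk CG.TD4.app iv CG.TD4.bs false facts nd rules) 204 12 = true := by decide +kernel
theorem c18 : allRange (chk CG.TD4.app iv CG.TD4.bs false facts nd rules) 216 14 = true := by decide +kernel
theorem c19 : allRange (chk CG.TD4.app iv CG.TD4.bs false facts nd rules) 230 10 = true := by decide +kernel
theorem c20 : allRange (chk CG.TD4.app iv CG.TD4.bs false facts nd rules) 240 11 = true := by decide +kernel
theorem c21 : allRange (chk CG.TD4.app iv CG.TD4.bs false facts nd rules) 251 13 = true := by decide +kernel
theorem c22 : allRange (chk CG.TD4.app iv CG.TD4.bs false facts nd rules) 264 11 = true := by decide +kernel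
theorem c23 : allRange (chk CG.TD4.app iv CG.TD4.bs false facts nd rules) 275 12 = true := by decide +kernel
theorem c24 : allRange (chk CG.TD4.app iv CG.TD4.bs false facts nd rules) 287 10 = true := by decide +kernel
theorem c25 : allRange (chk CG.TD4.app iv CG.TD4.bs false facts nd rules) 297 10 = true := by decide +kernel
theorem c26 : allRange (chk CG.TD4.app iv CG.TD4.bs false facts nd rules) 307 11 = true := by decide +kernel
theorem c27 : allRange (chk CG.TD4.app iv CG.TD4.bs false facts nd rules) 318 12 = true := by decide +kernel
theorem c28 : allRange (chk CG.TD4.app iv CG.TD4.bs false facts nd rules) 330 11 = true := by decide +kernel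
theorem c29 : allRange (chk CG.TD4.app iv CG.TD4.bs false facts nd rules) 341 11 = true := by decide +kernel
theorem c30 : allRange (chk CG.TD4.app iv CG.TD4.bs false facts nd rules) 352 12 = true := by decide +kernel
theorem c31 : allRange (chk CG.TD4.app iv CG.TD4.bs false facts nd rules) 364 11 = true := by decide +kernel
theorem c32 : allRange (chk CG.TD4.app iv CG.TD4.bs false facts nd rules) 375 12 = true := by decide +kernel
theorem c33 : allRange (chk CG.TD4.app iv CG.TD4.bs false facts nd rules) 387 12 = true := by decide +kernel
theorem c34 : allRange (chk CG.TD4.app iv CG.TD4.bs false facts nd rules) 399 12 = true := by decide +kernel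
theorem c35 : allRange (chk CG.TD4.app iv CG.TD4.bs false facts nd rules) 411 11 = true := by decide +kernel
theorem c36 : allRange (chk CG.TD4.app iv CG.TD4.bs false facts nd rules) 422 12 = true := by decide +kernel
theorem c37 : allRange (chk CG.TD4.app iv CG.TD4.bs false facts nd rules) 434 12 = true := by decide +kernel
theorem c38 : allRange (chk CG.TD4.app iv CG.TD4.bs false facts nd rules) 446 10 = true := by decide +kernel
theorem c39 : allRange (chk CG.TD4.app iv CG.TD4.bs false facts nd rules) 456 12 = true := by decide +kernel
theorem c40 : allRange (chk CG.TD4.app iv CG.TD4.bs false facts nd rules) 468 12 = true := by decide +kernel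
theorem c41 : allRange (chk CG.TD4.app iv CG.TD4.bs false facts nd rules) 480 11 = true := by decide +kernel
theorem c42 : allRange (chk CG.TD4.app iv CG.TD4.bs false facts nd rules) 491 12 = true := by decide +kernel
theorem c43 : allRange (chk CG.TD4.app iv CG.TD4.bs false facts nd rules) 503 12 = true := by decide +kernel
theorem c44 : allRange (chk CG.TD4.app iv CG.TD4.bs false facts nd rules) 515 12 = true := by decide +kernel
theorem c45 : allRange (chk CG.TD4.app iv CG.TD4.bs false facts nd rules) 527 11 = true := by decide +kernel
theorem c46 : allRange (chk CG.TD4.app iv CG.TD4.bs false facts nd rules) 538 12 = true := by decide +kernel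
theorem c47 : allRange (chk CG.TD4.app iv CG.TD4.bs false facts nd rules) 550 11 = true := by decide +kernel
theorem c48 : allRange (chk CG.TD4.app iv CG.TD4.bs false facts nd rules) 561 11 = true := by decide +kernel
theorem c49 : allRange (chk CG.TD4.app iv CG.TD4.bs false facts nd rules) 572 11 = true := by decide +kernel
theorem c50 : allRange (chk CG.TD4.app iv CG.TD4.bs false facts nd rules) 583 11 = true := by decide +kernel
theorem c51 : allRange (chk CG.TD4.app iv CG.TD4.bs false facts nd rules) 594 11 = true := by decide +kernel
theorem c52 : allRange (chk CG.TD4.app iv CG.TD4.bs false facts nd rules) 605 10 = true := by decide +kernel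
theorem c53 : allRange (chk CG.TD4.app iv CG.TD4.bs false facts nd rules) 615 11 = true := by decide +kernel
theorem c54 : allRange (chk CG.TD4.app iv CG.TD4.bs false facts nd rules) 626 11 = true := by decide +kernel
theorem c55 : allRange (chk CG.TD4.app iv CG.TD4.bs false facts nd rules) 637 11 = true := by decide +kernel
theorem c56 : allRange (chk CG.TD4.app iv CG.TD4.bs false facts nd rules) 648 11 = true := by decide +kernel
theorem c57 : allRange (chk CG.TD4.app iv CG.TD4.bs false facts nd rules) 659 12 = true := by decide +kernel
theorem c58 : allRange (chk CG.TD4.app iv CG.TD4.bs false facts nd rules) 671 10 = true := by decide +kernel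
theorem c59 : allRange (chk CG.TD4.app iv CG.TD4.bs false facts nd rules) 681 11 = true := by decide +kernel
theorem c60 : allRange (chk CG.TD4.app iv CG.TD4.bs false facts nd rules) 692 11 = true := by decide +kernel
theorem c61 : allRange (chk CG.TD4.app iv CG.TD4.bs false facts nd rules) 703 12 = true := by decide +kernel
theorem c62 : allRange (chk CG.TD4.app iv CG.TD4.bs false facts nd rules) 715 12 = true := by decide +kernel
theorem c63 : allRange (chk CG.TD4.app iv CG.TD4.bs false facts nd rules) 727 11 = true := by decide +kernel
theorem c64 : allRange (chk CG.TD4.app iv CG.TD4.bs false facts nd rules) 738 12 = true := by decide +kernel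
theorem c65 : allRange (chk CG.TD4.app iv CG.TD4.bs false facts nd rules) 750 12 = true := by decide +kernel
theorem c66 : allRange (chk CG.TD4.app iv CG.TD4.bs false facts nd rules) 762 13 = true := by decide +kernel
theorem c67 : allRange (chk CG.TD4.app iv CG.TD4.bs false facts nd rules) 775 13 = true := by decide +kernel
theorem c68 : allRange (chk CG.TD4.app iv CG.TD4.bs false facts nd rules) 788 11 = true := by decide +kernel
theorem c69 : allRange (chk CG.TD4.app iv CG.TD4.bs false facts nd rules) 799 11 = true := by decide +kernel
theorem c70 : allRange (chk CG.TD4.app iv CG.TD4.bs false facts nd rules) 810 12 = true := by decide +kernel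
theorem c71 : allRange (chk CG.TD4.app iv CG.TD4.bs false facts nd rules) 822 12 = true := by decide +kernel
theorem c72 : allRange (chk CG.TD4.app iv CG.TD4.bs false facts nd rules) 834 12 = true := by decide +kernel
theorem c73 : allRange (chk CG.TD4.app iv CG.TD4.bs false facts nd rules) 846 11 = true := by decide +kernel
theorem c74 : allRange (chk CG.TD4.app iv CG.TD4.bs false facts nd rules) 857 11 = true := by decide +kernel
theorem c75 : allRange (chk CG.TD4.app iv CG.TD4.bs false facts nd rules) 868 12 = true := by decide +kernel
theorem c76 : allRange (chk CG.TD4.app iv CG.TD4.bs false facts nd rules) 880 12 = true := by decide +kernel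
theorem c77 : allRange (chk CG.TD4.app iv CG.TD4.bs false facts nd rules) 892 10 = true := by decide +kernel
theorem c78 : allRange (chk CG.TD4.app iv CG.TD4.bs false facts nd rules) 902 11 = true := by decide +kernel
theorem c79 : allRange (chk CG.TD4.app iv CG.TD4.bs false facts nd rules) 913 11 = true := by decide +kernel
theorem c80 : allRange (chk CG.TD4.app iv CG.TD4.bs false facts nd rules) 924 11 = true := by decide +kernel
theorem c81 : allRange (chk CG.TD4.app iv CG.TD4.bs false facts nd rules) 935 11 = true := by decide +kernel
theorem c82 : allRange (chk CG.TD4.app iv CG.TD4.bs false facts nd rules) 946 12 = true := by decide +kernel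
theorem c83 : allRange (chk CG.TD4.app iv CG.TD4.bs false facts nd rules) 958 12 = true := by decide +kernel
theorem c84 : allRange (chk CG.TD4.app iv CG.TD4.bs false facts nd rules) 970 11 = true := by decide +kernel
theorem c85 : allRange (chk CG.TD4.app iv CG.TD4.bs false facts nd rules) 981 10 = true := by decide +kernel
theorem c86 : allRange (chk CG.TD4.app iv CG.TD4.bs false facts nd rules) 991 10 = true := by decide +kernel
theorem c87 : allRange (chk CG.TD4.app iv CG.TD4.bs false facts nd rules) 1001 10 = true := by decide +kernel
theorem c88 : allRange (chk CG.TD4.app iv CG.TD4.bs false facts nd rules) 1011 11 = true := by decide +kernel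
theorem c89 : allRange (chk CG.TD4.app iv CG.TD4.bs false facts nd rules) 1022 12 = true := by decide +kernel
theorem c90 : allRange (chk CG.TD4.app iv CG.TD4.bs false facts nd rules) 1034 12 = true := by decide +kernel
theorem c91 : allRange (chk CG.TD4.app iv CG.TD4.bs false facts nd rules) 1046 9 = true := by decide +kernel
theorem c92 : allRange (chk CG.TD4.app iv CG.TD4.bs false facts nd rules) 1055 12 = true := by decide +kernel
theorem c93 : allRange (chk CG.TD4.app iv CG.TD4.bs false facts nd rules) 1067 11 = true := by decide +kernel
theorem c94 : allRange (chk CG.TD4.app iv CG.TD4.bs false facts nd rules) 1078 10 = true := by decide +kernel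
theorem c95 : allRange (chk CG.TD4.app iv CG.TD4.bs false facts nd rules) 1088 13 = true := by decide +kernel
theorem c96 : allRange (chk CG.TD4.app iv CG.TD4.bs false facts nd rules) 1101 11 = true := by decide +kernel
theorem c97 : allRange (chk CG.TD4.app iv CG.TD4.bs false facts nd rules) 1112 11 = true := by decide +kernel
theorem c98 : allRange (chk CG.TD4.app iv CG.TD4.bs false facts nd rules) 1123 12 = true := by decide +kernel
theorem c99 : allRange (chk CG.TD4.app iv CG.TD4.bs false facts nd rules) 1135 12 = true := by decide +kernel
theorem c100 : allRange (chk CG.TD4.app iv CG.TD4.bs false facts nd rules) 1147 12 = true := by decide +kernel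
theorem c101 : allRange (chk CG.TD4.app iv CG.TD4.bs false facts nd rules) 1159 11 = true := by decide +kernel
theorem c102 : allRange (chk CG.TD4.app iv CG.TD4.bs false facts nd rules) 1170 11 = true := by decide +kernel
theorem c103 : allRange (chk CG.TD4.app iv CG.TD4.bs false facts nd rules) 1181 12 = true := by decide +kernel
theorem c104 : allRange (chk CG.TD4.app iv CG.TD4.bs false facts nd rules) 1193 11 = true := by decide +kernel
theorem c105 : allRange (chk CG.TD4.app iv CG.TD4.bs false facts nd rules) 1204 11 = true := by decide +kernel
theorem c106 : allRange (chk CG.TD4.app iv CG.TD4.bs false facts nd rules) 1215 12 = true := by decide +kernel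
theorem c107 : allRange (chk CG.TD4.app iv CG.TD4.bs false facts nd rules) 1227 12 = true := by decide +kernel
theorem c108 : allRange (chk CG.TD4.app iv CG.TD4.bs false facts nd rules) 1239 12 = true := by decide +kernel
theorem c109 : allRange (chk CG.TD4.app iv CG.TD4.bs false facts nd rules) 1251 12 = true := by decide +kernel
theorem c110 : allRange (chk CG.TD4.app iv CG.TD4.bs false facts nd rules) 1263 11 = true := by decide +kernel
theorem c111 : allRange (chk CG.TD4.app iv CG.TD4.bs false facts nd rules) 1274 11 = true := by decide +kernel
theorem c112 : allRange (chk CG.TD4.app iv CG.TD4.bs false facts nd rules) 1285 10 = true := by decide +kernel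
theorem c113 : allRange (chk CG.TD4.app iv CG.TD4.bs false facts nd rules) 1295 10 = true := by decide +kernel
theorem c114 : allRange (chk CG.TD4.app iv CG.TD4.bs false facts nd rules) 1305 12 = true := by decide +kernel
theorem c115 : allRange (chk CG.TD4.app iv CG.TD4.bs false facts nd rules) 1317 12 = true := by decide +kernel
theorem c116 : allRange (chk CG.TD4.app iv CG.TD4.bs false facts nd rules) 1329 10 = true := by decide +kernel
theorem c117 : allRange (chk CG.TD4.app iv CG.TD4.bs false facts nd rules) 1339 12 = true := by decide +kernel
theorem c118 : allRange (chk CG.TD4.app iv CG.TD4.bs false facts nd rules) 1351 12 = true := by decide +kernel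
theorem c119 : allRange (chk CG.TD4.app iv CG.TD4.bs false facts nd rules) 1363 10 = true := by decide +kernel
theorem c120 : allRange (chk CG.TD4.app iv CG.TD4.bs false facts nd rules) 1373 11 = true := by decide +kernel
theorem c121 : allRange (chk CG.TD4.app iv CG.TD4.bs false facts nd rules) 1384 12 = true := by decide +kernel
theorem c122 : allRange (chk CG.TD4.app iv CG.TD4.bs false facts nd rules) 1396 9 = true := by decide +kernel
theorem c123 : allRange (chk CG.TD4.app iv CG.TD4.bs false facts nd rules) 1405 11 = true := by decide +kernel
theorem c124 : allRange (chk CG.TD4.app iv CG.TD4.bs false facts nd rules) 1416 12 = true := by decide +kernel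
theorem c125 : allRange (chk CG.TD4.app iv CG.TD4.bs false facts nd rules) 1428 12 = true := by decide +kernel
theorem c126 : allRange (chk CG.TD4.app iv CG.TD4.bs false facts nd rules) 1440 10 = true := by decide +kernel
theorem c127 : allRange (chk CG.TD4.app iv CG.TD4.bs false facts nd rules) 1450 12 = true := by decide +kernel
theorem c128 : allRange (chk CG.TD4.app iv CG.TD4.bs false facts nd rules) 1462 9 = true := by decide +kernel
theorem c129 : allRange (chk CG.TD4.app iv CG.TD4.bs false facts nd rules) 1471 12 = true := by decide +kernel
theorem c130 : allRange (chk CG.TD4.app iv CG.TD4.bs false facts nd rules) 1483 11 = true := by decide +kernel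
theorem c131 : allRange (chk CG.TD4.app iv CG.TD4.bs false facts nd rules) 1494 11 = true := by decide +kernel
theorem c132 : allRange (chk CG.TD4.app iv CG.TD4.bs false facts nd rules) 1505 12 = true := by decide +kernel
theorem c133 : allRange (chk CG.TD4.app iv CG.TD4.bs false facts nd rules) 1517 12 = true := by decide +kernel
theorem c134 : allRange (chk CG.TD4.app iv CG.TD4.bs false facts nd rules) 1529 12 = true := by decide +kernel
theorem c135 : allRange (chk CG.TD4.app iv CG.TD4.bs false facts nd rules) 1541 13 = true := by decide +kernel
theorem c136 : allRange (chk CG.TD4.app iv CG.TD4.bs false facts nd rules) 1554 11 = true := by decide +kernel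
theorem c137 : allRange (chk CG.TD4.app iv CG.TD4.bs false facts nd rules) 1565 11 = true := by decide +kernel
theorem c138 : allRange (chk CG.TD4.app iv CG.TD4.bs false facts nd rules) 1576 11 = true := by decide +kernel
theorem c139 : allRange (chk CG.TD4.app iv CG.TD4.bs false facts nd rules) 1587 12 = true := by decide +kernel
theorem c140 : allRange (chk CG.TD4.app iv CG.TD4.bs false facts nd rules) 1599 11 = true := by decide +kernel
theorem c141 : allRange (chk CG.TD4.app iv CG.TD4.bs false facts nd rules) 1610 10 = true := by decide +kernel
theorem c142 : allRange (chk CG.TD4.app iv CG.TD4.bs false facts nd rules) 1620 10 = true := by decide +kernel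
theorem c143 : allRange (chk CG.TD4.app iv CG.TD4.bs false facts nd rules) 1630 11 = true := by decide +kernel
theorem c144 : allRange (chk CG.TD4.app iv CG.TD4.bs false facts nd rules) 1641 10 = true := by decide +kernel
theorem c145 : allRange (chk CG.TD4.app iv CG.TD4.bs false facts nd rules) 1651 9 = true := by decide +kernel
theorem c146 : allRange (chk CG.TD4.app iv CG.TD4.bs false facts nd rules) 1660 10 = true := by decide +kernel
theorem c147 : allRange (chk CG.TD4.app iv CG.TD4.bs false facts nd rules) 1670 11 = true := by decide +kernel
theorem c148 : allRange (chk CG.TD4.app iv CG.TD4.bs false facts nd rules) 1681 11 = true := by decide +kernel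
theorem c149 : allRange (chk CG.TD4.app iv CG.TD4.bs false facts nd rules) 1692 11 = true := by decide +kernel
theorem c150 : allRange (chk CG.TD4.app iv CG.TD4.bs false facts nd rules) 1703 11 = true := by decide +kernel
theorem c151 : allRange (chk CG.TD4.app iv CG.TD4.bs false facts nd rules) 1714 10 = true := by decide +kernel
theorem c152 : allRange (chk CG.TD4.app iv CG.TD4.bs false facts nd rules) 1724 12 = true := by decide +kernel
theorem c153 : allRange (chk CG.TD4.app iv CG.TD4.bs false facts nd rules) 1736 12 = true := by decide +kernel
theorem c154 : allRange (chk CG.TD4.app iv CG.TD4.bs false facts nd rules) 1748 10 = true := by decide +kernel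
theorem c155 : allRange (chk CG.TD4.app iv CG.TD4.bs false facts nd rules) 1758 10 = true := by decide +kernel
theorem c156 : allRange (chk CG.TD4.app iv CG.TD4.bs false facts nd rules) 1768 11 = true := by decide +kernel
theorem c157 : allRange (chk CG.TD4.app iv CG.TD4.bs false facts nd rules) 1779 12 = true := by decide +kernel
theorem c158 : allRange (chk CG.TD4.app iv CG.TD4.bs false facts nd rules) 1791 11 = true := by decide +kernel
theorem c159 : allRange (chk CG.TD4.app iv CG.TD4.bs false facts nd rules) 1802 12 = true := by decide +kernel
theorem c160 : allRange (chk CG.TD4.app iv CG.TD4.bs false facts nd rules) 1814 12 = true := by decide +kernel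
theorem c161 : allRange (chk CG.TD4.app iv CG.TD4.bs false facts nd rules) 1826 10 = true := by decide +kernel
theorem c162 : allRange (chk CG.TD4.app iv CG.TD4.bs false facts nd rules) 1836 11 = true := by decide +kernel
theorem c163 : allRange (chk CG.TD4.app iv CG.TD4.bs false facts nd rules) 1847 11 = true := by decide +kernel
theorem c164 : allRange (chk CG.TD4.app iv CG.TD4.bs false facts nd rules) 1858 12 = true := by decide +kernel
theorem c165 : allRange (chk CG.TD4.app iv CG.TD4.bs false facts nd rules) 1870 10 = true := by decide +kernel
theorem c166 : allRange (chk CG.TD4.app iv CG.TD4.bs false facts nd rules) 1880 10 = true := by decide +kernel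
theorem c167 : allRange (chk CG.TD4.app iv CG.TD4.bs false facts nd rules) 1890 11 = true := by decide +kernel
theorem c168 : allRange (chk CG.TD4.app iv CG.TD4.bs false facts nd rules) 1901 10 = true := by decide +kernel
theorem c169 : allRange (chk CG.TD4.app iv CG.TD4.bs false facts nd rules) 1911 12 = true := by decide +kernel
theorem c170 : allRange (chk CG.TD4.app iv CG.TD4.bs false facts nd rules) 1923 11 = true := by decide +kernel
theorem c171 : allRange (chk CG.TD4.app iv CG.TD4.bs false facts nd rules) 1934 8 = true := by decide +kernel
theorem c172 : allRange (chk CG.TD4.app iv CG.TD4.bs false facts nd rules) 1942 8 = true := by decide +kernel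
theorem c173 : allRange (chk CG.TD4.app iv CG.TD4.bs false facts nd rules) 1950 10 = true := by decide +kernel
theorem c174 : allRange (chk CG.TD4.app iv CG.TD4.bs false facts nd rules) 1960 13 = true := by decide +kernel
theorem c175 : allRange (chk CG.TD4.app iv CG.TD4.bs false facts nd rules) 1973 12 = true := by decide +kernel
theorem c176 : allRange (chk CG.TD4.app iv CG.TD4.bs false facts nd rules) 1985 11 = true := by decide +kernel
theorem c177 : allRange (chk CG.TD4.app iv CG.TD4.bs false facts nd rules) 1996 11 = true := by decide +kernel
theorem c178 : allRange (chk CG.TD4.app iv CG.TD4.bs false facts nd rules) 2007 11 = true := by decide +kernel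
theorem c179 : allRange (chk CG.TD4.app iv CG.TD4.bs false facts nd rules) 2018 11 = true := by decide +kernel
theorem c180 : allRange (chk CG.TD4.app iv CG.TD4.bs false facts nd rules) 2029 9 = true := by decide +kernel
theorem c181 : allRange (chk CG.TD4.app iv CG.TD4.bs false facts nd rules) 2038 11 = true := by decide +kernel
theorem c182 : allRange (chk CG.TD4.app iv CG.TD4.bs false facts nd rules) 2049 11 = true := by decide +kernel
theorem c183 : allRange (chk CG.TD4.app iv CG.TD4.bs false facts nd rules) 2060 12 = true := by decide +kernel
theorem c184 : allRange (chk CG.TD4.app iv CG.TD4.bs false facts nd rules) 2072 11 = true := by decide +kernel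
theorem c185 : allRange (chk CG.TD4.app iv CG.TD4.bs false facts nd rules) 2083 12 = true := by decide +kernel
theorem c186 : allRange (chk CG.TD4.app iv CG.TD4.bs false facts nd rules) 2095 12 = true := by decide +kernel
theorem c187 : allRange (chk CG.TD4.app iv CG.TD4.bs false facts nd rules) 2107 10 = true := by decide +kernel
theorem c188 : allRange (chk CG.TD4.app iv CG.TD4.bs false facts nd rules) 2117 12 = true := by decide +kernel
theorem c189 : allRange (chk CG.TD4.app iv CG.TD4.bs false facts nd rules) 2129 11 = true := by decide +kernel
theorem c190 : allRange (chk CG.TD4.app iv CG.TD4.bs false facts nd rules) 2140 12 = true := by decide +kernel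
theorem c191 : allRange (chk CG.TD4.app iv CG.TD4.bs false facts nd rules) 2152 11 = true := by decide +kernel
theorem c192 : allRange (chk CG.TD4.app iv CG.TD4.bs false facts nd rules) 2163 11 = true := by decide +kernel
theorem c193 : allRange (chk CG.TD4.app iv CG.TD4.bs false facts nd rules) 2174 12 = true := by decide +kernel
theorem c194 : allRange (chk CG.TD4.app iv CG.TD4.bs false facts nd rules) 2186 10 = true := by decide +kernel
theorem c195 : allRange (chk CG.TD4.app iv CG.TD4.bs false facts nd rules) 2196 12 = true := by decide +kernel
theorem c196 : allRange (chk CG.TD4.app iv CG.TD4.bs false facts nd rules) 2208 10 = true := by decide +kernel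
theorem c197 : allRange (chk CG.TD4.app iv CG.TD4.bs false facts nd rules) 2218 13 = true := by decide +kernel
theorem c198 : allRange (chk CG.TD4.app iv CG.TD4.bs false facts nd rules) 2231 14 = true := by decide +kernel
theorem c199 : allRange (chk CG.TD4.app iv CG.TD4.bs false facts nd rules) 2245 12 = true := by decide +kernel
theorem c200 : allRange (chk CG.TD4.app iv CG.TD4.bs false facts nd rules) 2257 11 = true := by decide +kernel
theorem c201 : allRange (chk CG.TD4.app iv CG.TD4.bs false facts nd rules) 2268 12 = true := by decide +kernel
theorem c202 : allRange (chk CG.TD4.app iv CG.TD4.bs false facts nd rules) 2280 9 = true := by decide +kernel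
theorem c203 : allRange (chk CG.TD4.app iv CG.TD4.bs false facts nd rules) 2289 12 = true := by decide +kernel
theorem c204 : allRange (chk CG.TD4.app iv CG.TD4.bs false facts nd rules) 2301 12 = true := by decide +kernel
theorem c205 : allRange (chk CG.TD4.app iv CG.TD4.bs false facts nd rules) 2313 11 = true := by decide +kernel
theorem c206 : allRange (chk CG.TD4.app iv CG.TD4.bs false facts nd rules) 2324 9 = true := by decide +kernel
theorem c207 : allRange (chk CG.TD4.app iv CG.TD4.bs false facts nd rules) 2333 9 = true := by decide +kernel
theorem c208 : allRange (chk CG.TD4.app iv CG.TD4.bs false facts nd rules) 2342 9 = true := by decide +kernel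
theorem c209 : allRange (chk CG.TD4.app iv CG.TD4.bs false facts nd rules) 2351 13 = true := by decide +kernel
theorem c210 : allRange (chk CG.TD4.app iv CG.TD4.bs false facts nd rules) 2364 11 = true := by decide +kernel
theorem c211 : allRange (chk CG.TD4.app iv CG.TD4.bs false facts nd rules) 2375 8 = true := by decide +kernel
theorem c212 : allRange (chk CG.TD4.app iv CG.TD4.bs false facts nd rules) 2383 9 = true := by decide +kernel
theorem c213 : allRange (chk CG.TD4.app iv CG.TD4.bs false facts nd rules) 2392 11 = true := by decide +kernel
theorem c214 : allRange (chk CG.TD4.app iv CG.TD4.bs false facts nd rules) 2403 10 = true := by decide +kernel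
theorem c215 : allRange (chk CG.TD4.app iv CG.TD4.bs false facts nd rules) 2413 12 = true := by decide +kernel
theorem c216 : allRange (chk CG.TD4.app iv CG.TD4.bs false facts nd rules) 2425 13 = true := by decide +kernel
theorem c217 : allRange (chk CG.TD4.app iv CG.TD4.bs false facts nd rules) 2438 8 = true := by decide +kernel
theorem c218 : allRange (chk CG.TD4.app iv CG.TD4.bs false facts nd rules) 2446 12 = true := by decide +kernel
theorem c219 : allRange (chk CG.TD4.app iv CG.TD4.bs false facts nd rules) 2458 11 = true := by decide +kernel
theorem c220 : allRange (chk CG.TD4.app iv CG.TD4.bs false facts nd rules) 2469 11 = true := by decide +kernel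
theorem c221 : allRange (chk CG.TD4.app iv CG.TD4.bs false facts nd rules) 2480 8 = true := by decide +kernel
theorem c222 : allRange (chk CG.TD4.app iv CG.TD4.bs false facts nd rules) 2488 9 = true := by decide +kernel
theorem c223 : allRange (chk CG.TD4.app iv CG.TD4.bs false facts nd rules) 2497 8 = true := by decide +kernel
theorem c224 : allRange (chk CG.TD4.app iv CG.TD4.bs false facts nd rules) 2505 11 = true := by decide +kernel
theorem c225 : allRange (chk CG.TD4.app iv CG.TD4.bs false facts nd rules) 2516 10 = true := by decide +kernel
theorem c226 : allRange (chk CG.TD4.app iv CG.TD4.bs false facts nd rules) 2526 9 = true := by decide +kernel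
theorem c227 : allRange (chk CG.TD4.app iv CG.TD4.bs false facts nd rules) 2535 11 = true := by decide +kernel
theorem c228 : allRange (chk CG.TD4.app iv CG.TD4.bs false facts nd rules) 2546 12 = true := by decide +kernel
theorem c229 : allRange (chk CG.TD4.app iv CG.TD4.bs false facts nd rules) 2558 10 = true := by decide +kernel
theorem c230 : allRange (chk CG.TD4.app iv CG.TD4.bs false facts nd rules) 2568 14 = true := by decide +kernel
theorem c231 : allRange (chk CG.TD4.app iv CG.TD4.bs false facts nd rules) 2582 9 = true := by decide +kernel
theorem c232 : allRange (chk CG.TD4.app iv CG.TD4.bs false facts nd rules) 2591 9 = true := by decide +kernel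
theorem c233 : allRange (chk CG.TD4.app iv CG.TD4.bs false facts nd rules) 2600 12 = true := by decide +kernel
theorem c234 : allRange (chk CG.TD4.app iv CG.TD4.bs false facts nd rules) 2612 14 = true := by decide +kernel
theorem c235 : allRange (chk CG.TD4.app iv CG.TD4.bs false facts nd rules) 2626 11 = true := by decide +kernel
theorem c236 : allRange (chk CG.TD4.app iv CG.TD4.bs false facts nd rules) 2637 11 = true := by decide +kernel
theorem c237 : allRange (chk CG.TD4.app iv CG.TD4.bs false facts nd rules) 2648 12 = true := by decide +kernel
theorem c238 : allRange (chk CG.TD4.app iv CG.TD4.bs false facts nd rules) 2660 11 = true := by decide +kernel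
theorem c239 : allRange (chk CG.TD4.app iv CG.TD4.bs false facts nd rules) 2671 9 = true := by decide +kernel
theorem c240 : allRange (chk CG.TD4.app iv CG.TD4.bs false facts nd rules) 2680 12 = true := by decide +kernel
theorem c241 : allRange (chk CG.TD4.app iv CG.TD4.bs false facts nd rules) 2692 10 = true := by decide +kernel
theorem c242 : allRange (chk CG.TD4.app iv CG.TD4.bs false facts nd rules) 2702 13 = true := by decide +kernel
theorem c243 : allRange (chk CG.TD4.app iv CG.TD4.bs false facts nd rules) 2715 11 = true := by decide +kernel
theorem c244 : allRange (chk CG.TD4.app iv CG.TD4.bs false facts nd rules) 2726 8 = true := by decide +kernel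
theorem c245 : allRange (chk CG.TD4.app iv CG.TD4.bs false facts nd rules) 2734 11 = true := by decide +kernel
theorem c246 : allRange (chk CG.TD4.app iv CG.TD4.bs false facts nd rules) 2745 11 = true := by decide +kernel
theorem c247 : allRange (chk CG.TD4.app iv CG.TD4.bs false facts nd rules) 2756 11 = true := by decide +kernel
theorem c248 : allRange (chk CG.TD4.app iv CG.TD4.bs false facts nd rules) 2767 11 = true := by decide +kernel
theorem c249 : allRange (chk CG.TD4.app iv CG.TD4.bs false facts nd rules) 2778 11 = true := by decide +kernel
theorem c250 : allRange (chk CG.TD4.app iv CG.TD4.bs false facts nd rules) 2789 8 = true := by decide +kernel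
theorem c251 : allRange (chk CG.TD4.app iv CG.TD4.bs false facts nd rules) 2797 12 = true := by decide +kernel
theorem c252 : allRange (chk CG.TD4.app iv CG.TD4.bs false facts nd rules) 2809 9 = true := by decide +kernel
theorem c253 : allRange (chk CG.TD4.app iv CG.TD4.bs false facts nd rules) 2818 11 = true := by decide +kernel
theorem c254 : allRange (chk CG.TD4.app iv CG.TD4.bs false facts nd rules) 2829 11 = true := by decide +kernel
theorem c255 : allRange (chk CG.TD4.app iv CG.TD4.bs false facts nd rules) 2840 8 = true := by decide +kernel
theorem c256 : allRange (chk CG.TD4.app iv CG.TD4.bs false facts nd rules) 2848 7 = true := by decide +kernel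
theorem c257 : allRange (chk CG.TD4.app iv CG.TD4.bs false facts nd rules) 2855 9 = true := by decide +kernel
theorem c258 : allRange (chk CG.TD4.app iv CG.TD4.bs false facts nd rules) 2864 8 = true := by decide +kernel
theorem c259 : allRange (chk CG.TD4.app iv CG.TD4.bs false facts nd rules) 2872 11 = true := by decide +kernel
theorem c260 : allRange (chk CG.TD4.app iv CG.TD4.bs false facts nd rules) 2883 9 = true := by decide +kernel
theorem c261 : allRange (chk CG.TD4.app iv CG.TD4.bs false facts nd rules) 2892 9 = true := by decide +kernel
theorem c262 : allRange (chk CG.TD4.app iv CG.TD4.bs false facts nd rules) 2901 12 = true := by decide +kernel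
theorem c263 : allRange (chk CG.TD4.app iv CG.TD4.bs false facts nd rules) 2913 10 = true := by decide +kernel
theorem c264 : allRange (chk CG.TD4.app iv CG.TD4.bs false facts nd rules) 2923 8 = true := by decide +kernel
theorem c265 : allRange (chk CG.TD4.app iv CG.TD4.bs false facts nd rules) 2931 11 = true := by decide +kernel
theorem c266 : allRange (chk CG.TD4.app iv CG.TD4.bs false facts nd rules) 2942 10 = true := by decide +kernel
theorem c267 : allRange (chk CG.TD4.app iv CG.TD4.bs false facts nd rules) 2952 10 = true := by decide +kernel
theorem c268 : allRange (chk CG.TD4.app iv CG.TD4.bs false facts nd rules) 2962 12 = true := by decide +kernel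
theorem c269 : allRange (chk CG.TD4.app iv CG.TD4.bs false facts nd rules) 2974 11 = true := by decide +kernel
theorem c270 : allRange (chk CG.TD4.app iv CG.TD4.bs false facts nd rules) 2985 12 = true := by decide +kernel
theorem c271 : allRange (chk CG.TD4.app iv CG.TD4.bs false facts nd rules) 2997 10 = true := by decide +kernel
theorem c272 : allRange (chk CG.TD4.app iv CG.TD4.bs false facts nd rules) 3007 13 = true := by decide +kernel
theorem c273 : allRange (chk CG.TD4.app iv CG.TD4.bs false facts nd rules) 3020 12 = true := by decide +kernel
theorem c274 : allRange (chk CG.TD4.app iv CG.TD4.bs false facts nd rules) 3032 11 = true := by decide +kernel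
theorem c275 : allRange (chk CG.TD4.app iv CG.TD4.bs false facts nd rules) 3043 12 = true := by decide +kernel
theorem c276 : allRange (chk CG.TD4.app iv CG.TD4.bs false facts nd rules) 3055 13 = true := by decide +kernel
theorem c277 : allRange (chk CG.TD4.app iv CG.TD4.bs false facts nd rules) 3068 14 = true := by decide +kernel
theorem c278 : allRange (chk CG.TD4.app iv CG.TD4.bs false facts nd rules) 3082 7 = true := by decide +kernel
theorem c279 : allRange (chk CG.TD4.app iv CG.TD4.bs false facts nd rules) 3089 12 = true := by decide +kernel
theorem c280 : allRange (chk CG.TD4.app iv CG.TD4.bs false facts nd rules) 3101 9 = true := by decide +kernel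
theorem c281 : allRange (chk CG.TD4.app iv CG.TD4.bs false facts nd rules) 3110 9 = true := by decide +kernel
theorem c282 : allRange (chk CG.TD4.app iv CG.TD4.bs false facts nd rules) 3119 12 = true := by decide +kernel
theorem c283 : allRange (chk CG.TD4.app iv CG.TD4.bs false facts nd rules) 3131 12 = true := by decide +kernel
theorem c284 : allRange (chk CG.TD4.app iv CG.TD4.bs false facts nd rules) 3143 11 = true := by decide +kernel
theorem c285 : allRange (chk CG.TD4.app iv CG.TD4.bs false facts nd rules) 3154 10 = true := by decide +kernel
theorem c286 : allRange (chk CG.TD4.app iv CG.TD4.bs false facts nd rules) 3164 9 = true := by decide +kernel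
theorem c287 : allRange (chk CG.TD4.app iv CG.TD4.bs false facts nd rules) 3173 11 = true := by decide +kernel
theorem c288 : allRange (chk CG.TD4.app iv CG.TD4.bs false facts nd rules) 3184 10 = true := by decide +kernel
theorem c289 : allRange (chk CG.TD4.app iv CG.TD4.bs false facts nd rules) 3194 9 = true := by decide +kernel
theorem c290 : allRange (chk CG.TD4.app iv CG.TD4.bs false facts nd rules) 3203 10 = true := by decide +kernel
theorem c291 : allRange (chk CG.TD4.app iv CG.TD4.bs false facts nd rules) 3213 11 = true := by decide +kernel
theorem c292 : allRange (chk CG.TD4.app iv CG.TD4.bs false facts nd rules) 3224 11 = true := by decide +kernel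
theorem c293 : allRange (chk CG.TD4.app iv CG.TD4.bs false facts nd rules) 3235 8 = true := by decide +kernel
theorem c294 : allRange (chk CG.TD4.app iv CG.TD4.bs false facts nd rules) 3243 10 = true := by decide +kernel
theorem c295 : allRange (chk CG.TD4.app iv CG.TD4.bs false facts nd rules) 3253 11 = true := by decide +kernel
theorem c296 : allRange (chk CG.TD4.app iv CG.TD4.bs false facts nd rules) 3264 8 = true := by decide +kernel
theorem c297 : allRange (chk CG.TD4.app iv CG.TD4.bs false facts nd rules) 3272 12 = true := by decide +kernel
theorem c298 : allRange (chk CG.TD4.app iv CG.TD4.bs false facts nd rules) 3284 11 = true := by decide +kernel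
theorem c299 : allRange (chk CG.TD4.app iv CG.TD4.bs false facts nd rules) 3295 12 = true := by decide +kernel
theorem c300 : allRange (chk CG.TD4.app iv CG.TD4.bs false facts nd rules) 3307 12 = true := by decide +kernel
theorem c301 : allRange (chk CG.TD4.app iv CG.TD4.bs false facts nd rules) 3319 10 = true := by decide +kernel
theorem c302 : allRange (chk CG.TD4.app iv CG.TD4.bs false facts nd rules) 3329 8 = true := by decide +kernel
theorem c303 : allRange (chk CG.TD4.app iv CG.TD4.bs false facts nd rules) 3337 12 = true := by decide +kernel
theorem c304 : allRange (chk CG.TD4.app iv CG.TD4.bs false facts nd rules) 3349 7 = true := by decide +kernel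
theorem c305 : allRange (chk CG.TD4.app iv CG.TD4.bs false facts nd rules) 3356 9 = true := by decide +kernel
theorem c306 : allRange (chk CG.TD4.app iv CG.TD4.bs false facts nd rules) 3365 12 = true := by decide +kernel
theorem c307 : allRange (chk CG.TD4.app iv CG.TD4.bs false facts nd rules) 3377 10 = true := by decide +kernel
theorem c308 : allRange (chk CG.TD4.app iv CG.TD4.bs false facts nd rules) 3387 8 = true := by decide +kernel
theorem c309 : allRange (chk CG.TD4.app iv CG.TD4.bs false facts nd rules) 3395 9 = true := by decide +kernel
theorem c310 : allRange (chk CG.TD4.app iv CG.TD4.bs false facts nd rules) 3404 9 = true := by decide +kernel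
theorem c311 : allRange (chk CG.TD4.app iv CG.TD4.bs false facts nd rules) 3413 13 = true := by decide +kernel
theorem c312 : allRange (chk CG.TD4.app iv CG.TD4.bs false facts nd rules) 3426 10 = true := by decide +kernel
theorem c313 : allRange (chk CG.TD4.app iv CG.TD4.bs false facts nd rules) 3436 13 = true := by decide +kernel
theorem c314 : allRange (chk CG.TD4.app iv CG.TD4.bs false facts nd rules) 3449 13 = true := by decide +kernel
theorem c315 : allRange (chk CG.TD4.app iv CG.TD4.bs false facts nd rules) 3462 12 = true := by decide +kernel
theorem c316 : allRange (chk CG.TD4.app iv CG.TD4.bs false facts nd rules) 3474 12 = true := by decide +kernel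
theorem c317 : allRange (chk CG.TD4.app iv CG.TD4.bs false facts nd rules) 3486 13 = true := by decide +kernel
theorem c318 : allRange (chk CG.TD4.app iv CG.TD4.bs false facts nd rules) 3499 12 = true := by decide +kernel
theorem c319 : allRange (chk CG.TD4.app iv CG.TD4.bs false facts nd rules) 3511 12 = true := by decide +kernel
theorem c320 : allRange (chk CG.TD4.app iv CG.TD4.bs false facts nd rules) 3523 12 = true := by decide +kernel
theorem c321 : allRange (chk CG.TD4.app iv CG.TD4.bs false facts nd rules) 3535 12 = true := by decide +kernel
theorem c322 : allRange (chk CG.TD4.app iv CG.TD4.bs false facts nd rules) 3547 12 = true := by decide +kernel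
theorem c323 : allRange (chk CG.TD4.app iv CG.TD4.bs false facts nd rules) 3559 12 = true := by decide +kernel
theorem c324 : allRange (chk CG.TD4.app iv CG.TD4.bs false facts nd rules) 3571 11 = true := by decide +kernel
theorem c325 : allRange (chk CG.TD4.app iv CG.TD4.bs false facts nd rules) 3582 12 = true := by decide +kernel
theorem c326 : allRange (chk CG.TD4.app iv CG.TD4.bs false facts nd rules) 3594 13 = true := by decide +kernel

end Cfsg.Agent.DC.Thb
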