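import Cfsg.Agent.Lib.DC.Thb.Defs

set_option autoImplicit false
set_option maxRecDepth 100000
set_option Elab.async false
set_option linter.unusedSectionVars false

namespace Cfsg.Agent.DC.Thb
open Cfsg.Agent.CG

theorem c327 : allRange (chk CG.TD4.app iv CG.TD4.bs false facts nd rules) 3607 12 = true := by decide +kernel
theorem c328 : allRange (chk CG.TD4.app iv CG.TD4.bs false facts nd rules) 3619 10 = true := by decide +kernel
theorem c329 : allRange (chk CG.TD4.app iv CG.TD4.bs false facts nd rules) 3629 11 = true := by decide +kernel
theorem c330 : allRange (chk CG.TD4.app iv CG.TD4.bs false facts nd rules) 3640 12 = true := by decide +kernel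
theorem c331 : allRange (chk CG.TD4.app iv CG.TD4.bs false facts nd rules) 3652 12 = true := by decide +kernel
theorem c332 : allRange (chk CG.TD4.app iv CG.TD4.bs false facts nd rules) 3664 12 = true := by decide +kernel
theorem c333 : allRange (chk CG.TD4.app iv CG.TD4.bs false facts nd rules) 3676 12 = true := by decide +kernel
theorem c334 : allRange (chk CG.TD4.app iv CG.TD4.bs false facts nd rules) 3688 11 = true := by decide +kernel
theorem c335 : allRange (chk CG.TD4.app iv CG.TD4.bs false facts nd rules) 3699 13 = true := by decide +kernel
theorem c336 : allRange (chk CG.TD4.app iv CG.TD4.bs false facts nd rules) 3712 11 = true := by decide +kernel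
theorem c337 : allRange (chk CG.TD4.app iv CG.TD4.bs false facts nd rules) 3723 11 = true := by decide +kernel
theorem c338 : allRange (chk CG.TD4.app iv CG.TD4.bs false facts nd rules) 3734 12 = true := by decide +kernel
theorem c339 : allRange (chk CG.TD4.app iv CG.TD4.bs false facts nd rules) 3746 14 = true := by decide +kernel
theorem c340 : allRange (chk CG.TD4.app iv CG.TD4.bs false facts nd rules) 3760 11 = true := by decide +kernel
theorem c341 : allRange (chk CG.TD4.app iv CG.TD4.bs false facts nd rules) 3771 13 = true := by decide +kernel
theorem c342 : allRange (chk CG.TD4.app iv CG.TD4.bs false facts nd rules) 3784 11 = true := by decide +kernel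
theorem c343 : allRange (chk CG.TD4.app iv CG.TD4.bs false facts nd rules) 3795 11 = true := by decide +kernel
theorem c344 : allRange (chk CG.TD4.app iv CG.TD4.bs false facts nd rules) 3806 13 = true := by decide +kernel
theorem c345 : allRange (chk CG.TD4.app iv CG.TD4.bs false facts nd rules) 3819 12 = true := by decide +kernel
theorem c346 : allRange (chk CG.TD4.app iv CG.TD4.bs false facts nd rules) 3831 13 = true := by decide +kernel
theorem c347 : allRange (chk CG.TD4.app iv CG.TD4.bs false facts nd rules) 3844 11 = true := by decide +kernel
theorem c348 : allRange (chk CG.TD4.app iv CG.TD4.bs false facts nd rules) 3855 13 = true := by decide +kernel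
theorem c349 : allRange (chk CG.TD4.app iv CG.TD4.bs false facts nd rules) 3868 12 = true := by decide +kernel
theorem c350 : allRange (chk CG.TD4.app iv CG.TD4.bs false facts nd rules) 3880 12 = true := by decide +kernel
theorem c351 : allRange (chk CG.TD4.app iv CG.TD4.bs false facts nd rules) 3892 12 = true := by decide +kernel
theorem c352 : allRange (chk CG.TD4.app iv CG.TD4.bs false facts nd rules) 3904 10 = true := by decide +kernel
theorem c353 : allRange (chk CG.TD4.app iv CG.TD4.bs false facts nd rules) 3914 12 = true := by decide +kernel
theorem c354 : allRange (chk CG.TD4.app iv CG.TD4.bs false facts nd rules) 3926 12 = true := by decide +kernel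
theorem c355 : allRange (chk CG.TD4.app iv CG.TD4.bs false facts nd rules) 3938 12 = true := by decide +kernel
theorem c356 : allRange (chk CG.TD4.app iv CG.TD4.bs false facts nd rules) 3950 12 = true := by decide +kernel
theorem c357 : allRange (chk CG.TD4.app iv CG.TD4.bs false facts nd rules) 3962 12 = true := by decide +kernel
theorem c358 : allRange (chk CG.TD4.app iv CG.TD4.bs false facts nd rules) 3974 11 = true := by decide +kernel
theorem c359 : allRange (chk CG.TD4.app iv CG.TD4.bs false facts nd rules) 3985 13 = true := by decide +kernel
theorem c360 : allRange (chk CG.TD4.app iv CG.TD4.bs false facts nd rules) 3998 12 = true := by decide +kernel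
theorem c361 : allRange (chk CG.TD4.app iv CG.TD4.bs false facts nd rules) 4010 11 = true := by decide +kernel
theorem c362 : allRange (chk CG.TD4.app iv CG.TD4.bs false facts nd rules) 4021 13 = true := by decide +kernel
theorem c363 : allRange (chk CG.TD4.app iv CG.TD4.bs false facts nd rules) 4034 14 = true := by decide +kernel
theorem c364 : allRange (chk CG.TD4.app iv CG.TD4.bs false facts nd rules) 4048 12 = true := by decide +kernel
theorem c365 : allRange (chk CG.TD4.app iv CG.TD4.bs false facts nd rules) 4060 12 = true := by decide +kernel
theorem c366 : allRange (chk CG.TD4.app iv CG.TD4.bs false facts nd rules) 4072 12 = true := by decide +kernel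
theorem c367 : allRange (chk CG.TD4.app iv CG.TD4.bs false facts nd rules) 4084 11 = true := by decide +kernel
theorem c368 : allRange (chk CG.TD4.app iv CG.TD4.bs false facts nd rules) 4095 12 = true := by decide +kernel
theorem c369 : allRange (chk CG.TD4.app iv CG.TD4.bs false facts nd rules) 4107 11 = true := by decide +kernel
theorem c370 : allRange (chk CG.TD4.app iv CG.TD4.bs false facts nd rules) 4118 12 = true := by decide +kernel
theorem c371 : allRange (chk CG.TD4.app iv CG.TD4.bs false facts nd rules) 4130 12 = true := by decide +kernel
theorem c372 : allRange (chk CG.TD4.app iv CG.TD4.bs false facts nd rules) 4142 12 = true := by decide +kernel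
theorem c373 : allRange (chk CG.TD4.app iv CG.TD4.bs false facts nd rules) 4154 11 = true := by decide +kernel
theorem c374 : allRange (chk CG.TD4.app iv CG.TD4.bs false facts nd rules) 4165 11 = true := by decide +kernel
theorem c375 : allRange (chk CG.TD4.app iv CG.TD4.bs false facts nd rules) 4176 11 = true := by decide +kernel
theorem c376 : allRange (chk CG.TD4.app iv CG.TD4.bs false facts nd rules) 4187 13 = true := by decide +kernel
theorem c377 : allRange (chk CG.TD4.app iv CG.TD4.bs false facts nd rules) 4200 13 = true := by decide +kernel
theorem c378 : allRange (chk CG.TD4.app iv CG.TD4.bs false facts nd rules) 4213 12 = true := by decide +kernel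
theorem c379 : allRange (chk CG.TD4.app iv CG.TD4.bs false facts nd rules) 4225 12 = true := by decide +kernel
theorem c380 : allRange (chk CG.TD4.app iv CG.TD4.bs false facts nd rules) 4237 12 = true := by decide +kernel
theorem c381 : allRange (chk CG.TD4.app iv CG.TD4.bs false facts nd rules) 4249 12 = true := by decide +kernel
theorem c382 : allRange (chk CG.TD4.app iv CG.TD4.bs false facts nd rules) 4261 12 = true := by decide +kernel
theorem c383 : allRange (chk CG.TD4.app iv CG.TD4.bs false facts nd rules) 4273 9 = true := by decide +kernel
theorem c384 : allRange (chk CG.TD4.app iv CG.TD4.bs false facts nd rules) 4282 9 = true := by decide +kernel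
theorem c385 : allRange (chk CG.TD4.app iv CG.TD4.bs false facts nd rules) 4291 12 = true := by decide +kernel
theorem c386 : allRange (chk CG.TD4.app iv CG.TD4.bs false facts nd rules) 4303 10 = true := by decide +kernel
theorem c387 : allRange (chk CG.TD4.app iv CG.TD4.bs false facts nd rules) 4313 8 = true := by decide +kernel
theorem c388 : allRange (chk CG.TD4.app iv CG.TD4.bs false facts nd rules) 4321 11 = true := by decide +kernel
theorem c389 : allRange (chk CG.TD4.app iv CG.TD4.bs false facts nd rules) 4332 10 = true := by decide +kernel
theorem c390 : allRange (chk CG.TD4.app iv CG.TD4.bs false facts nd rules) 4342 8 = true := by decide +kernel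
theorem c391 : allRange (chk CG.TD4.app iv CG.TD4.bs false facts nd rules) 4350 8 = true := by decide +kernel
theorem c392 : allRange (chk CG.TD4.app iv CG.TD4.bs false facts nd rules) 4358 11 = true := by decide +kernel
theorem c393 : allRange (chk CG.TD4.app iv CG.TD4.bs false facts nd rules) 4369 6 = true := by decide +kernel
theorem c394 : allRange (chk CG.TD4.app iv CG.TD4.bs false facts nd rules) 4375 8 = true := by decide +kernel
theorem c395 : allRange (chk CG.TD4.app iv CG.TD4.bs false facts nd rules) 4383 10 = true := by decide +kernel
theorem c396 : allRange (chk CG.TD4.app iv CG.TD4.bs false facts nd rules) 4393 9 = true := by decide +kernel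
theorem c397 : allRange (chk CG.TD4.app iv CG.TD4.bs false facts nd rules) 4402 12 = true := by decide +kernel
theorem c398 : allRange (chk CG.TD4.app iv CG.TD4.bs false facts nd rules) 4414 9 = true := by decide +kernel
theorem c399 : allRange (chk CG.TD4.app iv CG.TD4.bs false facts nd rules) 4423 9 = true := by decide +kernel
theorem c400 : allRange (chk CG.TD4.app iv CG.TD4.bs false facts nd rules) 4432 9 = true := by decide +kernel
theorem c401 : allRange (chk CG.TD4.app iv CG.TD4.bs false facts nd rules) 4441 12 = true := by decide +kernel
theorem c402 : allRange (chk CG.TD4.app iv CG.TD4.bs false facts nd rules) 4453 6 = true := by decide +kernel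
theorem c403 : allRange (chk CG.TD4.app iv CG.TD4.bs false facts nd rules) 4459 9 = true := by decide +kernel
theorem c404 : allRange (chk CG.TD4.app iv CG.TD4.bs false facts nd rules) 4468 12 = true := by decide +kernel
theorem c405 : allRange (chk CG.TD4.app iv CG.TD4.bs false facts nd rules) 4480 12 = true := by decide +kernel
theorem c406 : allRange (chk CG.TD4.app iv CG.TD4.bs false facts nd rules) 4492 12 = true := by decide +kernel
theorem c407 : allRange (chk CG.TD4.app iv CG.TD4.bs false facts nd rules) 4504 12 = true := by decide +kernel
theorem c408 : allRange (chk CG.TD4.app iv CG.TD4.bs false facts nd rules) 4516 11 = true := by decide +kernel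
theorem c409 : allRange (chk CG.TD4.app iv CG.TD4.bs false facts nd rules) 4527 10 = true := by decide +kernel
theorem c410 : allRange (chk CG.TD4.app iv CG.TD4.bs false facts nd rules) 4537 11 = true := by decide +kernel
theorem c411 : allRange (chk CG.TD4.app iv CG.TD4.bs false facts nd rules) 4548 10 = true := by decide +kernel
theorem c412 : allRange (chk CG.TD4.app iv CG.TD4.bs false facts nd rules) 4558 12 = true := by decide +kernel
theorem c413 : allRange (chk CG.TD4.app iv CG.TD4.bs false facts nd rules) 4570 9 = true := by decide +kernel
theorem c414 : allRange (chk CG.TD4.app iv CG.TD4.bs false facts nd rules) 4579 9 = true := by decide +kernel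
theorem c415 : allRange (chk CG.TD4.app iv CG.TD4.bs false facts nd rules) 4588 9 = true := by decide +kernel
theorem c416 : allRange (chk CG.TD4.app iv CG.TD4.bs false facts nd rules) 4597 9 = true := by decide +kernel
theorem c417 : allRange (chk CG.TD4.app iv CG.TD4.bs false facts nd rules) 4606 10 = true := by decide +kernel
theorem c418 : allRange (chk CG.TD4.app iv CG.TD4.bs false facts nd rules) 4616 7 = true := by decide +kernel
theorem c419 : allRange (chk CG.TD4.app iv CG.TD4.bs false facts nd rules) 4623 12 = true := by decide +kernel
theorem c420 : allRange (chk CG.TD4.app iv CG.TD4.bs false facts nd rules) 4635 9 = true := by decide +kernel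
theorem c421 : allRange (chk CG.TD4.app iv CG.TD4.bs false facts nd rules) 4644 12 = true := by decide +kernel
theorem c422 : allRange (chk CG.TD4.app iv CG.TD4.bs false facts nd rules) 4656 11 = true := by decide +kernel
theorem c423 : allRange (chk CG.TD4.app iv CG.TD4.bs false facts nd rules) 4667 12 = true := by decide +kernel
theorem c424 : allRange (chk CG.TD4.app iv CG.TD4.bs false facts nd rules) 4679 11 = true := by decide +kernel
theorem c425 : allRange (chk CG.TD4.app iv CG.TD4.bs false facts nd rules) 4690 12 = true := by decide +kernel
theorem c426 : allRange (chk CG.TD4.app iv CG.TD4.bs false facts nd rules) 4702 11 = true := by decide +kernel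
theorem c427 : allRange (chk CG.TD4.app iv CG.TD4.bs false facts nd rules) 4713 12 = true := by decide +kernel
theorem c428 : allRange (chk CG.TD4.app iv CG.TD4.bs false facts nd rules) 4725 12 = true := by decide +kernel
theorem c429 : allRange (chk CG.TD4.app iv CG.TD4.bs false facts nd rules) 4737 9 = true := by decide +kernel
theorem c430 : allRange (chk CG.TD4.app iv CG.TD4.bs false facts nd rules) 4746 11 = true := by decide +kernel
theorem c431 : allRange (chk CG.TD4.app iv CG.TD4.bs false facts nd rules) 4757 9 = true := by decide +kernel
theorem c432 : allRange (chk CG.TD4.app iv CG.TD4.bs false facts nd rules) 4766 10 = true := by decide +kernel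
theorem c433 : allRange (chk CG.TD4.app iv CG.TD4.bs false facts nd rules) 4776 13 = true := by decide +kernel
theorem c434 : allRange (chk CG.TD4.app iv CG.TD4.bs false facts nd rules) 4789 12 = true := by decide +kernel
theorem c435 : allRange (chk CG.TD4.app iv CG.TD4.bs false facts nd rules) 4801 12 = true := by decide +kernel
theorem c436 : allRange (chk CG.TD4.app iv CG.TD4.bs false facts nd rules) 4813 11 = true := by decide +kernel
theorem c437 : allRange (chk CG.TD4.app iv CG.TD4.bs false facts nd rules) 4824 12 = true := by decide +kernel
theorem c438 : allRange (chk CG.TD4.app iv CG.TD4.bs false facts nd rules) 4836 11 = true := by decide +kernel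
theorem c439 : allRange (chk CG.TD4.app iv CG.TD4.bs false facts nd rules) 4847 9 = true := by decide +kernel
theorem c440 : allRange (chk CG.TD4.app iv CG.TD4.bs false facts nd rules) 4856 9 = true := by decide +kernel
theorem c441 : allRange (chk CG.TD4.app iv CG.TD4.bs false facts nd rules) 4865 8 = true := by decide +kernel
theorem c442 : allRange (chk CG.TD4.app iv CG.TD4.bs false facts nd rules) 4873 10 = true := by decide +kernel
theorem c443 : allRange (chk CG.TD4.app iv CG.TD4.bs false facts nd rules) 4883 9 = true := by decide +kernel
theorem c444 : allRange (chk CG.TD4.app iv CG.TD4.bs false facts nd rules) 4892 13 = true := by decide +kernel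
theorem c445 : allRange (chk CG.TD4.app iv CG.TD4.bs false facts nd rules) 4905 10 = true := by decide +kernel
theorem c446 : allRange (chk CG.TD4.app iv CG.TD4.bs false facts nd rules) 4915 11 = true := by decide +kernel
theorem c447 : allRange (chk CG.TD4.app iv CG.TD4.bs false facts nd rules) 4926 9 = true := by decide +kernel
theorem c448 : allRange (chk CG.TD4.app iv CG.TD4.bs false facts nd rules) 4935 11 = true := by decide +kernel
theorem c449 : allRange (chk CG.TD4.app iv CG.TD4.bs false facts nd rules) 4946 9 = true := by decide +kernel
theorem c450 : allRange (chk CG.TD4.app iv CG.TD4.bs false facts nd rules) 4955 11 = true := by decide +kernel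
theorem c451 : allRange (chk CG.TD4.app iv CG.TD4.bs false facts nd rules) 4966 11 = true := by decide +kernel
theorem c452 : allRange (chk CG.TD4.app iv CG.TD4.bs false facts nd rules) 4977 11 = true := by decide +kernel
theorem c453 : allRange (chk CG.TD4.app iv CG.TD4.bs false facts nd rules) 4988 11 = true := by decide +kernel
theorem c454 : allRange (chk CG.TD4.app iv CG.TD4.bs false facts nd rules) 4999 9 = true := by decide +kernel
theorem c455 : allRange (chk CG.TD4.app iv CG.TD4.bs false facts nd rules) 5008 14 = true := by decide +kernel
theorem c456 : allRange (chk CG.TD4.app iv CG.TD4.bs false facts nd rules) 5022 8 = true := by decide +kernel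
theorem c457 : allRange (chk CG.TD4.app iv CG.TD4.bs false facts nd rules) 5030 9 = true := by decide +kernel
theorem c458 : allRange (chk CG.TD4.app iv CG.TD4.bs false facts nd rules) 5039 10 = true := by decide +kernel
theorem c459 : allRange (chk CG.TD4.app iv CG.TD4.bs false facts nd rules) 5049 14 = true := by decide +kernel
theorem c460 : allRange (chk CG.TD4.app iv CG.TD4.bs false facts nd rules) 5063 11 = true := by decide +kernel
theorem c461 : allRange (chk CG.TD4.app iv CG.TD4.bs false facts nd rules) 5074 10 = true := by decide +kernel
theorem c462 : allRange (chk CG.TD4.app iv CG.TD4.bs false facts nd rules) 5084 12 = true := by decide +kernel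
theorem c463 : allRange (chk CG.TD4.app iv CG.TD4.bs false facts nd rules) 5096 11 = true := by decide +kernel
theorem c464 : allRange (chk CG.TD4.app iv CG.TD4.bs false facts nd rules) 5107 11 = true := by decide +kernel
theorem c465 : allRange (chk CG.TD4.app iv CG.TD4.bs false facts nd rules) 5118 8 = true := by decide +kernel
theorem c466 : allRange (chk CG.TD4.app iv CG.TD4.bs false facts nd rules) 5126 7 = true := by decide +kernel
theorem c467 : allRange (chk CG.TD4.app iv CG.TD4.bs false facts nd rules) 5133 9 = true := by decide +kernel
theorem c468 : allRange (chk CG.TD4.app iv CG.TD4.bs false facts nd rules) 5142 9 = true := by decide +kernel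
theorem c469 : allRange (chk CG.TD4.app iv CG.TD4.bs false facts nd rules) 5151 10 = true := by decide +kernel
theorem c470 : allRange (chk CG.TD4.app iv CG.TD4.bs false facts nd rules) 5161 7 = true := by decide +kernel
theorem c471 : allRange (chk CG.TD4.app iv CG.TD4.bs false facts nd rules) 5168 12 = true := by decide +kernel
theorem c472 : allRange (chk CG.TD4.app iv CG.TD4.bs false facts nd rules) 5180 9 = true := by decide +kernel
theorem c473 : allRange (chk CG.TD4.app iv CG.TD4.bs false facts nd rules) 5189 7 = true := by decide +kernel
theorem c474 : allRange (chk CG.TD4.app iv CG.TD4.bs false facts nd rules) 5196 6 = true := by decide +kernel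
theorem c475 : allRange (chk CG.TD4.app iv CG.TD4.bs false facts nd rules) 5202 9 = true := by decide +kernel
theorem c476 : allRange (chk CG.TD4.app iv CG.TD4.bs false facts nd rules) 5211 10 = true := by decide +kernel
theorem c477 : allRange (chk CG.TD4.app iv CG.TD4.bs false facts nd rules) 5221 11 = true := by decide +kernel
theorem c478 : allRange (chk CG.TD4.app iv CG.TD4.bs false facts nd rules) 5232 9 = true := by decide +kernel
theorem c479 : allRange (chk CG.TD4.app iv CG.TD4.bs false facts nd rules) 5241 6 = true := by decide +kernel
theorem c480 : allRange (chk CG.TD4.app iv CG.TD4.bs false facts nd rules) 5247 4 = true := by decide +kernel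
theorem c481 : allRange (chk CG.TD4.app iv CG.TD4.bs false facts nd rules) 5251 9 = true := by decide +kernel
theorem c482 : allRange (chk CG.TD4.app iv CG.TD4.bs false facts nd rules) 5260 11 = true := by decide +kernel
theorem c483 : allRange (chk CG.TD4.app iv CG.TD4.bs false facts nd rules) 5271 9 = true := by decide +kernel
theorem c484 : allRange (chk CG.TD4.app iv CG.TD4.bs false facts nd rules) 5280 6 = true := by decide +kernel
theorem c485 : allRange (chk CG.TD4.app iv CG.TD4.bs false facts nd rules) 5286 5 = true := by decide +kernel
theorem c486 : allRange (chk CG.TD4.app iv CG.TD4.bs false facts nd rules) 5291 11 = true := by decide +kernel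
theorem c487 : allRange (chk CG.TD4.app iv CG.TD4.bs false facts nd rules) 5302 6 = true := by decide +kernel
theorem c488 : allRange (chk CG.TD4.app iv CG.TD4.bs false facts nd rules) 5308 12 = true := by decide +kernel
theorem c489 : allRange (chk CG.TD4.app iv CG.TD4.bs false facts nd rules) 5320 11 = true := by decide +kernel
theorem c490 : allRange (chk CG.TD4.app iv CG.TD4.bs false facts nd rules) 5331 12 = true := by decide +kernel
theorem c491 : allRange (chk CG.TD4.app iv CG.TD4.bs false facts nd rules) 5343 11 = true := by decide +kernel
theorem c492 : allRange (chk CG.TD4.app iv CG.TD4.bs false facts nd rules) 5354 8 = true := by decide +kernel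
theorem c493 : allRange (chk CG.TD4.app iv CG.TD4.bs false facts nd rules) 5362 10 = true := by decide +kernel
theorem c494 : allRange (chk CG.TD4.app iv CG.TD4.bs false facts nd rules) 5372 13 = true := by decide +kernel
theorem c495 : allRange (chk CG.TD4.app iv CG.TD4.bs false facts nd rules) 5385 7 = true := by decide +kernel
theorem c496 : allRange (chk CG.TD4.app iv CG.TD4.bs false facts nd rules) 5392 8 = true := by decide +kernel
theorem c497 : allRange (chk CG.TD4.app iv CG.TD4.bs false facts nd rules) 5400 8 = true := by decide +kernel
theorem c498 : allRange (chk CG.TD4.app iv CG.TD4.bs false facts nd rules) 5408 6 = true := by decide +kernel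
theorem c499 : allRange (chk CG.TD4.app iv CG.TD4.bs false facts nd rules) 5414 6 = true := by decide +kernel
theorem c500 : allRange (chk CG.TD4.app iv CG.TD4.bs false facts nd rules) 5420 9 = true := by decide +kernel
theorem c501 : allRange (chk CG.TD4.app iv CG.TD4.bs false facts nd rules) 5429 8 = true := by decide +kernel
theorem c502 : allRange (chk CG.TD4.app iv CG.TD4.bs false facts nd rules) 5437 12 = true := by decide +kernel
theorem c503 : allRange (chk CG.TD4.app iv CG.TD4.bs false facts nd rules) 5449 12 = true := by decide +kernel
theorem c504 : allRange (chk CG.TD4.app iv CG.TD4.bs false facts nd rules) 5461 11 = true := by decide +kernel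
theorem c505 : allRange (chk CG.TD4.app iv CG.TD4.bs false facts nd rules) 5472 9 = true := by decide +kernel
theorem c506 : allRange (chk CG.TD4.app iv CG.TD4.bs false facts nd rules) 5481 12 = true := by decide +kernel
theorem c507 : allRange (chk CG.TD4.app iv CG.TD4.bs false facts nd rules) 5493 10 = true := by decide +kernel
theorem c508 : allRange (chk CG.TD4.app iv CG.TD4.bs false facts nd rules) 5503 11 = true := by decide +kernel
theorem c509 : allRange (chk CG.TD4.app iv CG.TD4.bs false facts nd rules) 5514 9 = true := by decide +kernel
theorem c510 : allRange (chk CG.TD4.app iv CG.TD4.bs false facts nd rules) 5523 6 = true := by decide +kernel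
theorem c511 : allRange (chk CG.TD4.app iv CG.TD4.bs false facts nd rules) 5529 8 = true := by decide +kernel
theorem c512 : allRange (chk CG.TD4.app iv CG.TD4.bs false facts nd rules) 5537 10 = true := by decide +kernel
theorem c513 : allRange (chk CG.TD4.app iv CG.TD4.bs false facts nd rules) 5547 9 = true := by decide +kernel
theorem c514 : allRange (chk CG.TD4.app iv CG.TD4.bs false facts nd rules) 5556 12 = true := by decide +kernel
theorem c515 : allRange (chk CG.TD4.app iv CG.TD4.bs false facts nd rules) 5568 9 = true := by decide +kernel
theorem c516 : allRange (chk CG.TD4.app iv CG.TD4.bs false facts nd rules) 5577 9 = true := by decide +kernel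
theorem c517 : allRange (chk CG.TD4.app iv CG.TD4.bs false facts nd rules) 5586 11 = true := by decide +kernel
theorem c518 : allRange (chk CG.TD4.app iv CG.TD4.bs false facts nd rules) 5597 7 = true := by decide +kernel
theorem c519 : allRange (chk CG.TD4.app iv CG.TD4.bs false facts nd rules) 5604 11 = true := by decide +kernel
theorem c520 : allRange (chk CG.TD4.app iv CG.TD4.bs false facts nd rules) 5615 9 = true := by decide +kernel
theorem c521 : allRange (chk CG.TD4.app iv CG.TD4.bs false facts nd rules) 5624 6 = true := by decide +kernel
theorem c522 : allRange (chk CG.TD4.app iv CG.TD4.bs false facts nd rules) 5630 9 = true := by decide +kernel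
theorem c523 : allRange (chk CG.TD4.app iv CG.TD4.bs false facts nd rules) 5639 9 = true := by decide +kernel
theorem c524 : allRange (chk CG.TD4.app iv CG.TD4.bs false facts nd rules) 5648 9 = true := by decide +kernel
theorem c525 : allRange (chk CG.TD4.app iv CG.TD4.bs false facts nd rules) 5657 9 = true := by decide +kernel
theorem c526 : allRange (chk CG.TD4.app iv CG.TD4.bs false facts nd rules) 5666 7 = true := by decide +kernel
theorem c527 : allRange (chk CG.TD4.app iv CG.TD4.bs false facts nd rules) 5673 8 = true := by decide +kernel
theorem c528 : allRange (chk CG.TD4.app iv CG.TD4.bs false facts nd rules) 5681 9 = true := by decide +kernel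
theorem c529 : allRange (chk CG.TD4.app iv CG.TD4.bs false facts nd rules) 5690 9 = true := by decide +kernel
theorem c530 : allRange (chk CG.TD4.app iv CG.TD4.bs false facts nd rules) 5699 9 = true := by decide +kernel
theorem c531 : allRange (chk CG.TD4.app iv CG.TD4.bs false facts nd rules) 5708 9 = true := by decide +kernel
theorem c532 : allRange (chk CG.TD4.app iv CG.TD4.bs false facts nd rules) 5717 6 = true := by decide +kernel
theorem c533 : allRange (chk CG.TD4.app iv CG.TD4.bs false facts nd rules) 5723 9 = true := by decide +kernel
theorem c534 : allRange (chk CG.TD4.app iv CG.TD4.bs false facts nd rules) 5732 9 = true := by decide +kernel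
theorem c535 : allRange (chk CG.TD4.app iv CG.TD4.bs false facts nd rules) 5741 8 = true := by decide +kernel
theorem c536 : allRange (chk CG.TD4.app iv CG.TD4.bs false facts nd rules) 5749 8 = true := by decide +kernel
theorem c537 : allRange (chk CG.TD4.app iv CG.TD4.bs false facts nd rules) 5757 9 = true := by decide +kernel
theorem c538 : allRange (chk CG.TD4.app iv CG.TD4.bs false facts nd rules) 5766 10 = true := by decide +kernel
theorem c539 : allRange (chk CG.TD4.app iv CG.TD4.bs false facts nd rules) 5776 11 = true := by decide +kernel
theorem c540 : allRange (chk CG.TD4.app iv CG.TD4.bs false facts nd rules) 5787 10 = true := by decide +kernel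
theorem c541 : allRange (chk CG.TD4.app iv CG.TD4.bs false facts nd rules) 5797 9 = true := by decide +kernel
theorem c542 : allRange (chk CG.TD4.app iv CG.TD4.bs false facts nd rules) 5806 12 = true := by decide +kernel
theorem c543 : allRange (chk CG.TD4.app iv CG.TD4.bs false facts nd rules) 5818 12 = true := by decide +kernel
theorem c544 : allRange (chk CG.TD4.app iv CG.TD4.bs false facts nd rules) 5830 6 = true := by decide +kernel
theorem c545 : allRange (chk CG.TD4.app iv CG.TD4.bs false facts nd rules) 5836 11 = true := by decide +kernel
theorem c546 : allRange (chk CG.TD4.app iv CG.TD4.bs false facts nd rules) 5847 13 = true := by decide +kernel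
theorem c547 : allRange (chk CG.TD4.app iv CG.TD4.bs false facts nd rules) 5860 9 = true := by decide +kernel
theorem c548 : allRange (chk CG.TD4.app iv CG.TD4.bs false facts nd rules) 5869 9 = true := by decide +kernel
theorem c549 : allRange (chk CG.TD4.app iv CG.TD4.bs false facts nd rules) 5878 6 = true := by decide +kernel
theorem c550 : allRange (chk CG.TD4.app iv CG.TD4.bs false facts nd rules) 5884 8 = true := by decide +kernel
theorem c551 : allRange (chk CG.TD4.app iv CG.TD4.bs false facts nd rules) 5892 13 = true := by decide +kernel
theorem c552 : allRange (chk CG.TD4.app iv CG.TD4.bs false facts nd rules) 5905 9 = true := by decide +kernel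
theorem c553 : allRange (chk CG.TD4.app iv CG.TD4.bs false facts nd rules) 5914 9 = true := by decide +kernel
theorem c554 : allRange (chk CG.TD4.app iv CG.TD4.bs false facts nd rules) 5923 9 = true := by decide +kernel
theorem c555 : allRange (chk CG.TD4.app iv CG.TD4.bs false facts nd rules) 5932 12 = true := by decide +kernel
theorem c556 : allRange (chk CG.TD4.app iv CG.TD4.bs false facts nd rules) 5944 8 = true := by decide +kernel
theorem c557 : allRange (chk CG.TD4.app iv CG.TD4.bs false facts nd rules) 5952 6 = true := by decide +kernel
theorem c558 : allRange (chk CG.TD4.app iv CG.TD4.bs false facts nd rules) 5958 9 = true := by decide +kernel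
theorem c559 : allRange (chk CG.TD4.app iv CG.TD4.bs false facts nd rules) 5967 9 = true := by decide +kernel
theorem c560 : allRange (chk CG.TD4.app iv CG.TD4.bs false facts nd rules) 5976 8 = true := by decide +kernel
theorem c561 : allRange (chk CG.TD4.app iv CG.TD4.bs false facts nd rules) 5984 10 = true := by decide +kernel
theorem c562 : allRange (chk CG.TD4.app iv CG.TD4.bs false facts nd rules) 5994 9 = true := by decide +kernel
theorem c563 : allRange (chk CG.TD4.app iv CG.TD4.bs false facts nd rules) 6003 6 = true := by decide +kernel
theorem c564 : allRange (chk CG.TD4.app iv CG.TD4.bs false facts nd rules) 6009 6 = true := by decide +kernel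
theorem c565 : allRange (chk CG.TD4.app iv CG.TD4.bs false facts nd rules) 6015 7 = true := by decide +kernel
theorem c566 : allRange (chk CG.TD4.app iv CG.TD4.bs false facts nd rules) 6022 9 = true := by decide +kernel
theorem c567 : allRange (chk CG.TD4.app iv CG.TD4.bs false facts nd rules) 6031 6 = true := by decide +kernel
theorem c568 : allRange (chk CG.TD4.app iv CG.TD4.bs false facts nd rules) 6037 6 = true := by decide +kernel
theorem c569 : allRange (chk CG.TD4.app iv CG.TD4.bs false facts nd rules) 6043 17 = true := by decide +kernel
theorem c570 : chainIn (dl.map Prod.fst) CG.TD4.mc.tail = true := by decide +kernel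
theorem c571 : allL (dlChk facts 6060 1) dl = true := by decide +kernel
theorem c572 : allRange (forChk CG.TD4.app iv facts 6060 0 1 0 20 fin fo0) 0 12000 = true := by decide +kernel
theorem c573 : allRange (forChk CG.TD4.app iv facts 6060 0 1 0 20 fin fo0) 12000 5199 = true := by decide +kernel
theorem c574 : allRange (forChk CG.TD4.app iv facts 6060 1 1 0 20 fin fo1) 0 8020 = true := by decide +kernel
theorem c575 : allRange (forChk CG.TD4.app iv facts 6060 1 1 0 20 fin fo1) 8020 8020 = true := by decide +kernel
theorem c576 : allRange (forChk CG.TD4.app iv facts 6060 1 1 0 20 fin fo1) 16040 1159 = true := by decide +kernel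
theorem c577 : allRange (forChk CG.TD4.app iv facts 6060 2 1 0 20 fin fo2) 0 5982 = true := by decide +kernel

end Cfsg.Agent.DC.Thb
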