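import Cfsg.Agent.Lib.DC.Thb.Defs

set_option autoImplicit false
set_option maxRecDepth 100000
set_option Elab.async false
set_option linter.unusedSectionVars false

namespace Cfsg.Agent.DC.Thb
open Cfsg.Agent.CG

theorem c578 : allRange (forChk CG.TD4.app iv facts 6060 2 1 0 20 fin fo2) 5982 5957 = true := by decide +kernel
theorem c579 : allRange (forChk CG.TD4.app iv facts 6060 2 1 0 20 fin fo2) 11939 5260 = true := by decide +kernel
theorem c580 : allRange (forChk CG.TD4.app iv facts 6060 3 1 0 20 fin fo3) 0 5531 = true := by decide +kernel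
theorem c581 : allRange (forChk CG.TD4.app iv facts 6060 3 1 0 20 fin fo3) 5531 5516 = true := by decide +kernel
theorem c582 : allRange (forChk CG.TD4.app iv facts 6060 3 1 0 20 fin fo3) 11047 5504 = true := by decide +kernel
theorem c583 : allRange (forChk CG.TD4.app iv facts 6060 3 1 0 20 fin fo3) 16551 648 = true := by decide +kernel
theorem c584 : allRange (forChk CG.TD4.app iv facts 6060 4 1 0 20 fin fo4) 0 5733 = true := by decide +kernel
theorem c585 : allRange (forChk CG.TD4.app iv facts 6060 4 1 0 20 fin fo4) 5733 5667 = true := by decide +kernel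
theorem c586 : allRange (forChk CG.TD4.app iv facts 6060 4 1 0 20 fin fo4) 11400 5653 = true := by decide +kernel
theorem c587 : allRange (forChk CG.TD4.app iv facts 6060 4 1 0 20 fin fo4) 17053 146 = true := by decide +kernel
theorem c588 : allRange (forChk CG.TD4.app iv facts 6060 5 1 0 20 fin fo5) 0 6145 = true := by decide +kernel
theorem c589 : allRange (forChk CG.TD4.app iv facts 6060 5 1 0 20 fin fo5) 6145 8360 = true := by decide +kernel
theorem c590 : allRange (forChk CG.TD4.app iv facts 6060 5 1 0 20 fin fo5) 14505 2694 = true := by decide +kernel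
theorem c591 : allRange (forChk CG.TD4.app iv facts 6060 6 1 0 20 fin fo6) 0 5840 = true := by decide +kernel
theorem c592 : allRange (forChk CG.TD4.app iv facts 6060 6 1 0 20 fin fo6) 5840 5954 = true := by decide +kernel
theorem c593 : allRange (forChk CG.TD4.app iv facts 6060 6 1 0 20 fin fo6) 11794 5405 = true := by decide +kernel
theorem c594 : allRange (forChk CG.TD4.app iv facts 6060 7 1 0 20 fin fo7) 0 6473 = true := by decide +kernel
theorem c595 : allRange (forChk CG.TD4.app iv facts 6060 7 1 0 20 fin fo7) 6473 6594 = true := by decide +kernel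
theorem c596 : allRange (forChk CG.TD4.app iv facts 6060 7 1 0 20 fin fo7) 13067 4132 = true := by decide +kernel
theorem c597 : allRange (forChk CG.TD4.app iv facts 6060 8 1 0 20 fin fo8) 0 5301 = true := by decide +kernel
theorem c598 : allRange (forChk CG.TD4.app iv facts 6060 8 1 0 20 fin fo8) 5301 5291 = true := by decide +kernel
theorem c599 : allRange (forChk CG.TD4.app iv facts 6060 8 1 0 20 fin fo8) 10592 5261 = true := by decide +kernel
theorem c600 : allRange (forChk CG.TD4.app iv facts 6060 8 1 0 20 fin fo8) 15853 1346 = true := by decide +kernel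

end Cfsg.Agent.DC.Thb
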