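import Cfsg.Agent.Lib.DC.Thb.Defs

set_option autoImplicit false
set_option maxRecDepth 100000
set_option Elab.async false
set_option linter.unusedSectionVars false

namespace Cfsg.Agent.DC.Thb
open Cfsg.Agent.CG

theorem c601 : allRange (forChk CG.TD4.app iv facts 6060 9 1 0 20 fin fo9) 0 5297 = true := by decide +kernel
theorem c602 : allRange (forChk CG.TD4.app iv facts 6060 9 1 0 20 fin fo9) 5297 5383 = true := by decide +kernel
theorem c603 : allRange (forChk CG.TD4.app iv facts 6060 9 1 0 20 fin fo9) 10680 5411 = true := by decide +kernel
theorem c604 : allRange (forChk CG.TD4.app iv facts 6060 9 1 0 20 fin fo9) 16091 1108 = true := by decide +kernel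
theorem c605 : allRange (forChk CG.TD4.app iv facts 6060 10 1 0 20 fin fo10) 0 4913 = true := by decide +kernel
theorem c606 : allRange (forChk CG.TD4.app iv facts 6060 10 1 0 20 fin fo10) 4913 4938 = true := by decide +kernel
theorem c607 : allRange (forChk CG.TD4.app iv facts 6060 10 1 0 20 fin fo10) 9851 4936 = true := by decide +kernel
theorem c608 : allRange (forChk CG.TD4.app iv facts 6060 10 1 0 20 fin fo10) 14787 2412 = true := by decide +kernel

end Cfsg.Agent.DC.Thb
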