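import Cfsg.Agent.Lib.Grp.TD4.Main
import Cfsg.Agent.Lib.DC.Thb.C0
import Cfsg.Agent.Lib.DC.Thb.C1
import Cfsg.Agent.Lib.DC.Thb.C2
import Cfsg.Agent.Lib.DC.Thb.C3

set_option autoImplicit false
set_option maxRecDepth 100000
set_option Elab.async false
set_option linter.unusedSectionVars false

namespace Cfsg.Agent.DC.Thb
open Cfsg.Agent.CG

variable [_root_.Fact (Bounds CG.TD4.tcR CG.TD4.tcS 634023936)] {Γ : Type*} [Group Γ] {f : CG.TD4.PG →* Γ} {τ z : ℕ → Γ} {L : Subgroup Γ}

theorem hiv : ∀ a, CG.TD4.act.gen (iv a) = (CG.TD4.act.gen a)⁻¹ := fun a =>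
  (congrArg CG.TD4.act.gen (ivX_eq c0 c1 a)).trans (CG.TD4.hinv a)

theorem h256 : ∀ a, a < 256 → iv a < 256 := fun a ha => (blt_iff _ _).1 ((allLt_iff _ _).1 c2 a ha)

theorem all : allRange (chk CG.TD4.app iv CG.TD4.bs false facts nd rules) 0 6060 = true :=
  (rapp (allRange (chk CG.TD4.app iv CG.TD4.bs false facts nd rules)) (fun _ _ _ => allRange_append) 6060 (rapp (allRange (chk CG.TD4.app iv CG.TD4.bs false facts nd rules)) (fun _ _ _ => allRange_append) 3173 (rapp (allRange (chk CG.TD4.app iv CG.TD4.bs false facts nd rules)) (fun _ _ _ => allRange_append) 1651 (rapp (allRange (chk CG.TD4.app iv CG.TD4.bs false facts nd rules)) (fun _ _ _ => allRange_append) 857 (rapp (allRange (chk CG.TD4.app iv CG.TD4.bs false facts nd rules)) (fun _ _ _ => allRange_append) 456 (rapp (allRange (chk CG.TD4.app iv CG.TD4.bs false facts nd rules)) (fun _ _ _ => allRange_append) 251 (rapp (allRange (chk CG.TD4.app iv CG.TD4.bs false facts nd rules)) (fun _ _ _ => allRange_append) 146 (rapp (allRange (chk CG.TD4.app iv CG.TD4.bs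 false facts nd rules)) (fun _ _ _ => allRange_append) 104 (rapp (allRange (chk CG.TD4.app iv CG.TD4.bs false facts nd rules)) (fun _ _ _ => allRange_append) 77 c4
    c5 rfl rfl)
    (rapp (allRange (chk CG.TD4.app iv CG.TD4.bs false facts nd rules)) (fun _ _ _ => allRange_append) 27 c6
    c7 rfl rfl) rfl rfl)
    (rapp (allRange (chk CG.TD4.app iv CG.TD4.bs false facts nd rules)) (fun _ _ _ => allRange_append) 42 (rapp (allRange (chk CG.TD4.app iv CG.TD4.bs false facts nd rules)) (fun _ _ _ => allRange_append) 17 c8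
    c9 rfl rfl)
    (rapp (allRange (chk CG.TD4.app iv CG.TD4.bs false facts nd rules)) (fun _ _ _ => allRange_append) 25 c10
    c11 rfl rfl) rfl rfl) rfl rfl)
    (rapp (allRange (chk CG.TD4.app iv CG.TD4.bs false facts nd rules)) (fun _ _ _ => allRange_append) 105 (rapp (allRange (chk CG.TD4.app iv CG.TD4.bs false facts nd rules)) (fun _ _ _ => allRange_append) 46 (rapp (allRange (chk CG.TD4.app iv CG.TD4.bs false facts nd rules)) (fun _ _ _ => allRange_append) 27 c12
    c13 rfl rfl)
    (rapp (allRange (chk CG.TD4.app iv CG.TD4.bs false facts nd rules)) (fun _ _ _ => allRange_append) 19 c14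
    c15 rfl rfl) rfl rfl)
    (rapp (allRange (chk CG.TD4.app iv CG.TD4.bs false facts nd rules)) (fun _ _ _ => allRange_append) 59 (rapp (allRange (chk CG.TD4.app iv CG.TD4.bs false facts nd rules)) (fun _ _ _ => allRange_append) 24 c16
    c17 rfl rfl)
    (rapp (allRange (chk CG.TD4.app iv CG.TD4.bs false facts nd rules)) (fun _ _ _ => allRange_append) 35 c18
    (rapp (allRange (chk CG.TD4.app iv CG.TD4.bs false facts nd rules)) (fun _ _ _ => allRange_append) 21 c19
    c20 rfl rfl) rfl rfl) rfl rfl) rfl rfl) rfl rfl)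
    (rapp (allRange (chk CG.TD4.app iv CG.TD4.bs false facts nd rules)) (fun _ _ _ => allRange_append) 205 (rapp (allRange (chk CG.TD4.app iv CG.TD4.bs false facts nd rules)) (fun _ _ _ => allRange_append) 101 (rapp (allRange (chk CG.TD4.app iv CG.TD4.bs false facts nd rules)) (fun _ _ _ => allRange_append) 46 (rapp (allRange (chk CG.TD4.app iv CG.TD4.bs false facts nd rules)) (fun _ _ _ => allRange_append) 24 c21
    c22 rfl rfl)
    (rapp (allRange (chk CG.TD4.app iv CG.TD4.bs false facts nd rules)) (fun _ _ _ => allRange_append) 22 c23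
    c24 rfl rfl) rfl rfl)
    (rapp (allRange (chk CG.TD4.app iv CG.TD4.bs false facts nd rules)) (fun _ _ _ => allRange_append) 55 (rapp (allRange (chk CG.TD4.app iv CG.TD4.bs false facts nd rules)) (fun _ _ _ => allRange_append) 21 c25
    c26 rfl rfl)
    (rapp (allRange (chk CG.TD4.app iv CG.TD4.bs false facts nd rules)) (fun _ _ _ => allRange_append) 34 c27
    (rapp (allRange (chk CG.TD4.app iv CG.TD4.bs false facts nd rules)) (fun _ _ _ => allRange_append) 22 c28
    c29 rfl rfl) rfl rfl) rfl rfl) rfl rfl)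
    (rapp (allRange (chk CG.TD4.app iv CG.TD4.bs false facts nd rules)) (fun _ _ _ => allRange_append) 104 (rapp (allRange (chk CG.TD4.app iv CG.TD4.bs false facts nd rules)) (fun _ _ _ => allRange_append) 47 (rapp (allRange (chk CG.TD4.app iv CG.TD4.bs false facts nd rules)) (fun _ _ _ => allRange_append) 23 c30
    c31 rfl rfl)
    (rapp (allRange (chk CG.TD4.app iv CG.TD4.bs false facts nd rules)) (fun _ _ _ => allRange_append) 24 c32
    c33 rfl rfl) rfl rfl)
    (rapp (allRange (chk CG.TD4.app iv CG.TD4.bs false facts nd rules)) (fun _ _ _ => allRange_append) 57 (rapp (allRange (chk CG.TD4.app iv CG.TD4.bs false facts nd rules)) (fun _ _ _ => allRange_append) 23 c34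
    c35 rfl rfl)
    (rapp (allRange (chk CG.TD4.app iv CG.TD4.bs false facts nd rules)) (fun _ _ _ => allRange_append) 34 c36
    (rapp (allRange (chk CG.TD4.app iv CG.TD4.bs false facts nd rules)) (fun _ _ _ => allRange_append) 22 c37
    c38 rfl rfl) rfl rfl) rfl rfl) rfl rfl) rfl rfl) rfl rfl)
    (rapp (allRange (chk CG.TD4.app iv CG.TD4.bs false facts nd rules)) (fun _ _ _ => allRange_append) 401 (rapp (allRange (chk CG.TD4.app iv CG.TD4.bs false facts nd rules)) (fun _ _ _ => allRange_append) 192 (rapp (allRange (chk CG.TD4.app iv CG.TD4.bs false facts nd rules)) (fun _ _ _ => allRange_append) 94 (rapp (allRange (chk CG.TD4.app iv CG.TD4.bs false facts nd rules)) (fun _ _ _ => allRange_append) 47 (rapp (allRange (chk CG.TD4.app iv CG.TD4.bs false facts nd rules)) (fun _ _ _ => allRange_append) 24 c39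
    c40 rfl rfl)
    (rapp (allRange (chk CG.TD4.app iv CG.TD4.bs false facts nd rules)) (fun _ _ _ => allRange_append) 23 c41
    c42 rfl rfl) rfl rfl)
    (rapp (allRange (chk CG.TD4.app iv CG.TD4.bs false facts nd rules)) (fun _ _ _ => allRange_append) 47 (rapp (allRange (chk CG.TD4.app iv CG.TD4.bs false facts nd rules)) (fun _ _ _ => allRange_append) 24 c43
    c44 rfl rfl)
    (rapp (allRange (chk CG.TD4.app iv CG.TD4.bs false facts nd rules)) (fun _ _ _ => allRange_append) 23 c45
    c46 rfl rfl) rfl rfl) rfl rfl)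
    (rapp (allRange (chk CG.TD4.app iv CG.TD4.bs false facts nd rules)) (fun _ _ _ => allRange_append) 98 (rapp (allRange (chk CG.TD4.app iv CG.TD4.bs false facts nd rules)) (fun _ _ _ => allRange_append) 44 (rapp (allRange (chk CG.TD4.app iv CG.TD4.bs false facts nd rules)) (fun _ _ _ => allRange_append) 22 c47
    c48 rfl rfl)
    (rapp (allRange (chk CG.TD4.app iv CG.TD4.bs false facts nd rules)) (fun _ _ _ => allRange_append) 22 c49
    c50 rfl rfl) rfl rfl)
    (rapp (allRange (chk CG.TD4.app iv CG.TD4.bs false facts nd rules)) (fun _ _ _ => allRange_append) 54 (rapp (allRange (chk CG.TD4.app iv CG.TD4.bs false facts nd rules)) (fun _ _ _ => allRange_append) 21 c51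
    c52 rfl rfl)
    (rapp (allRange (chk CG.TD4.app iv CG.TD4.bs false facts nd rules)) (fun _ _ _ => allRange_append) 33 c53
    (rapp (allRange (chk CG.TD4.app iv CG.TD4.bs false facts nd rules)) (fun _ _ _ => allRange_append) 22 c54
    c55 rfl rfl) rfl rfl) rfl rfl) rfl rfl) rfl rfl)
    (rapp (allRange (chk CG.TD4.app iv CG.TD4.bs false facts nd rules)) (fun _ _ _ => allRange_append) 209 (rapp (allRange (chk CG.TD4.app iv CG.TD4.bs false facts nd rules)) (fun _ _ _ => allRange_append) 102 (rapp (allRange (chk CG.TD4.app iv CG.TD4.bs false facts nd rules)) (fun _ _ _ => allRange_append) 44 (rapp (allRange (chk CG.TD4.app iv CG.TD4.bs false facts nd rules)) (fun _ _ _ => allRange_append) 23 c56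
    c57 rfl rfl)
    (rapp (allRange (chk CG.TD4.app iv CG.TD4.bs false facts nd rules)) (fun _ _ _ => allRange_append) 21 c58
    c59 rfl rfl) rfl rfl)
    (rapp (allRange (chk CG.TD4.app iv CG.TD4.bs false facts nd rules)) (fun _ _ _ => allRange_append) 58 (rapp (allRange (chk CG.TD4.app iv CG.TD4.bs false facts nd rules)) (fun _ _ _ => allRange_append) 23 c60
    c61 rfl rfl)
    (rapp (allRange (chk CG.TD4.app iv CG.TD4.bs false facts nd rules)) (fun _ _ _ => allRange_append) 35 c62
    (rapp (allRange (chk CG.TD4.app iv CG.TD4.bs false facts nd rules)) (fun _ _ _ => allRange_append) 23 c63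
    c64 rfl rfl) rfl rfl) rfl rfl) rfl rfl)
    (rapp (allRange (chk CG.TD4.app iv CG.TD4.bs false facts nd rules)) (fun _ _ _ => allRange_append) 107 (rapp (allRange (chk CG.TD4.app iv CG.TD4.bs false facts nd rules)) (fun _ _ _ => allRange_append) 49 (rapp (allRange (chk CG.TD4.app iv CG.TD4.bs false facts nd rules)) (fun _ _ _ => allRange_append) 25 c65
    c66 rfl rfl)
    (rapp (allRange (chk CG.TD4.app iv CG.TD4.bs false facts nd rules)) (fun _ _ _ => allRange_append) 24 c67
    c68 rfl rfl) rfl rfl)
    (rapp (allRange (chk CG.TD4.app iv CG.TD4.bs false facts nd rules)) (fun _ _ _ => allRange_append) 58 (rapp (allRange (chk CG.TD4.app iv CG.TD4.bs false facts nd rules)) (fun _ _ _ => allRange_append) 23 c69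
    c70 rfl rfl)
    (rapp (allRange (chk CG.TD4.app iv CG.TD4.bs false facts nd rules)) (fun _ _ _ => allRange_append) 35 c71
    (rapp (allRange (chk CG.TD4.app iv CG.TD4.bs false facts nd rules)) (fun _ _ _ => allRange_append) 23 c72
    c73 rfl rfl) rfl rfl) rfl rfl) rfl rfl) rfl rfl) rfl rfl) rfl rfl)
    (rapp (allRange (chk CG.TD4.app iv CG.TD4.bs false facts nd rules)) (fun _ _ _ => allRange_append) 794 (rapp (allRange (chk CG.TD4.app iv CG.TD4.bs false facts nd rules)) (fun _ _ _ => allRange_append) 394 (rapp (allRange (chk CG.TD4.app iv CG.TD4.bs false facts nd rules)) (fun _ _ _ => allRange_append) 189 (rapp (allRange (chk CG.TD4.app iv CG.TD4.bs false facts nd rules)) (fun _ _ _ => allRange_append) 89 (rapp (allRange (chk CG.TD4.app iv CG.TD4.bs false facts nd rules)) (fun _ _ _ => allRange_append) 45 (rapp (allRange (chk CG.TD4.app iv CG.TD4.bs false facts nd rules)) (fun _ _ _ => allRange_append) 23 c74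
    c75 rfl rfl)
    (rapp (allRange (chk CG.TD4.app iv CG.TD4.bs false facts nd rules)) (fun _ _ _ => allRange_append) 22 c76
    c77 rfl rfl) rfl rfl)
    (rapp (allRange (chk CG.TD4.app iv CG.TD4.bs false facts nd rules)) (fun _ _ _ => allRange_append) 44 (rapp (allRange (chk CG.TD4.app iv CG.TD4.bs false facts nd rules)) (fun _ _ _ => allRange_append) 22 c78
    c79 rfl rfl)
    (rapp (allRange (chk CG.TD4.app iv CG.TD4.bs false facts nd rules)) (fun _ _ _ => allRange_append) 22 c80
    c81 rfl rfl) rfl rfl) rfl rfl)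
    (rapp (allRange (chk CG.TD4.app iv CG.TD4.bs false facts nd rules)) (fun _ _ _ => allRange_append) 100 (rapp (allRange (chk CG.TD4.app iv CG.TD4.bs false facts nd rules)) (fun _ _ _ => allRange_append) 45 (rapp (allRange (chk CG.TD4.app iv CG.TD4.bs false facts nd rules)) (fun _ _ _ => allRange_append) 24 c82
    c83 rfl rfl)
    (rapp (allRange (chk CG.TD4.app iv CG.TD4.bs false facts nd rules)) (fun _ _ _ => allRange_append) 21 c84
    c85 rfl rfl) rfl rfl)
    (rapp (allRange (chk CG.TD4.app iv CG.TD4.bs false facts nd rules)) (fun _ _ _ => allRange_append) 55 (rapp (allRange (chk CG.TD4.app iv CG.TD4.bs false facts nd rules)) (fun _ _ _ => allRange_append) 20 c86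
    c87 rfl rfl)
    (rapp (allRange (chk CG.TD4.app iv CG.TD4.bs false facts nd rules)) (fun _ _ _ => allRange_append) 35 c88
    (rapp (allRange (chk CG.TD4.app iv CG.TD4.bs false facts nd rules)) (fun _ _ _ => allRange_append) 24 c89
    c90 rfl rfl) rfl rfl) rfl rfl) rfl rfl) rfl rfl)
    (rapp (allRange (chk CG.TD4.app iv CG.TD4.bs false facts nd rules)) (fun _ _ _ => allRange_append) 205 (rapp (allRange (chk CG.TD4.app iv CG.TD4.bs false facts nd rules)) (fun _ _ _ => allRange_append) 101 (rapp (allRange (chk CG.TD4.app iv CG.TD4.bs false facts nd rules)) (fun _ _ _ => allRange_append) 42 (rapp (allRange (chk CG.TD4.app iv CG.TD4.bs false facts nd rules)) (fun _ _ _ => allRange_append) 21 c91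
    c92 rfl rfl)
    (rapp (allRange (chk CG.TD4.app iv CG.TD4.bs false facts nd rules)) (fun _ _ _ => allRange_append) 21 c93
    c94 rfl rfl) rfl rfl)
    (rapp (allRange (chk CG.TD4.app iv CG.TD4.bs false facts nd rules)) (fun _ _ _ => allRange_append) 59 (rapp (allRange (chk CG.TD4.app iv CG.TD4.bs false facts nd rules)) (fun _ _ _ => allRange_append) 24 c95
    c96 rfl rfl)
    (rapp (allRange (chk CG.TD4.app iv CG.TD4.bs false facts nd rules)) (fun _ _ _ => allRange_append) 35 c97
    (rapp (allRange (chk CG.TD4.app iv CG.TD4.bs false facts nd rules)) (fun _ _ _ => allRange_append) 24 c98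
    c99 rfl rfl) rfl rfl) rfl rfl) rfl rfl)
    (rapp (allRange (chk CG.TD4.app iv CG.TD4.bs false facts nd rules)) (fun _ _ _ => allRange_append) 104 (rapp (allRange (chk CG.TD4.app iv CG.TD4.bs false facts nd rules)) (fun _ _ _ => allRange_append) 46 (rapp (allRange (chk CG.TD4.app iv CG.TD4.bs false facts nd rules)) (fun _ _ _ => allRange_append) 23 c100
    c101 rfl rfl)
    (rapp (allRange (chk CG.TD4.app iv CG.TD4.bs false facts nd rules)) (fun _ _ _ => allRange_append) 23 c102
    c103 rfl rfl) rfl rfl)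
    (rapp (allRange (chk CG.TD4.app iv CG.TD4.bs false facts nd rules)) (fun _ _ _ => allRange_append) 58 (rapp (allRange (chk CG.TD4.app iv CG.TD4.bs false facts nd rules)) (fun _ _ _ => allRange_append) 22 c104
    c105 rfl rfl)
    (rapp (allRange (chk CG.TD4.app iv CG.TD4.bs false facts nd rules)) (fun _ _ _ => allRange_append) 36 c106
    (rapp (allRange (chk CG.TD4.app iv CG.TD4.bs false facts nd rules)) (fun _ _ _ => allRange_append) 24 c107
    c108 rfl rfl) rfl rfl) rfl rfl) rfl rfl) rfl rfl) rfl rfl)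
    (rapp (allRange (chk CG.TD4.app iv CG.TD4.bs false facts nd rules)) (fun _ _ _ => allRange_append) 400 (rapp (allRange (chk CG.TD4.app iv CG.TD4.bs false facts nd rules)) (fun _ _ _ => allRange_append) 199 (rapp (allRange (chk CG.TD4.app iv CG.TD4.bs false facts nd rules)) (fun _ _ _ => allRange_append) 100 (rapp (allRange (chk CG.TD4.app iv CG.TD4.bs false facts nd rules)) (fun _ _ _ => allRange_append) 44 (rapp (allRange (chk CG.TD4.app iv CG.TD4.bs false facts nd rules)) (fun _ _ _ => allRange_append) 23 c109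
    c110 rfl rfl)
    (rapp (allRange (chk CG.TD4.app iv CG.TD4.bs false facts nd rules)) (fun _ _ _ => allRange_append) 21 c111
    c112 rfl rfl) rfl rfl)
    (rapp (allRange (chk CG.TD4.app iv CG.TD4.bs false facts nd rules)) (fun _ _ _ => allRange_append) 56 (rapp (allRange (chk CG.TD4.app iv CG.TD4.bs false facts nd rules)) (fun _ _ _ => allRange_append) 22 c113
    c114 rfl rfl)
    (rapp (allRange (chk CG.TD4.app iv CG.TD4.bs false facts nd rules)) (fun _ _ _ => allRange_append) 34 c115
    (rapp (allRange (chk CG.TD4.app iv CG.TD4.bs false facts nd rules)) (fun _ _ _ => allRange_append) 22 c116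
    c117 rfl rfl) rfl rfl) rfl rfl) rfl rfl)
    (rapp (allRange (chk CG.TD4.app iv CG.TD4.bs false facts nd rules)) (fun _ _ _ => allRange_append) 99 (rapp (allRange (chk CG.TD4.app iv CG.TD4.bs false facts nd rules)) (fun _ _ _ => allRange_append) 45 (rapp (allRange (chk CG.TD4.app iv CG.TD4.bs false facts nd rules)) (fun _ _ _ => allRange_append) 22 c118
    c119 rfl rfl)
    (rapp (allRange (chk CG.TD4.app iv CG.TD4.bs false facts nd rules)) (fun _ _ _ => allRange_append) 23 c120
    c121 rfl rfl) rfl rfl)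
    (rapp (allRange (chk CG.TD4.app iv CG.TD4.bs false facts nd rules)) (fun _ _ _ => allRange_append) 54 (rapp (allRange (chk CG.TD4.app iv CG.TD4.bs false facts nd rules)) (fun _ _ _ => allRange_append) 20 c122
    c123 rfl rfl)
    (rapp (allRange (chk CG.TD4.app iv CG.TD4.bs false facts nd rules)) (fun _ _ _ => allRange_append) 34 c124
    (rapp (allRange (chk CG.TD4.app iv CG.TD4.bs false facts nd rules)) (fun _ _ _ => allRange_append) 22 c125
    c126 rfl rfl) rfl rfl) rfl rfl) rfl rfl) rfl rfl)
    (rapp (allRange (chk CG.TD4.app iv CG.TD4.bs false facts nd rules)) (fun _ _ _ => allRange_append) 201 (rapp (allRange (chk CG.TD4.app iv CG.TD4.bs false facts nd rules)) (fun _ _ _ => allRange_append) 104 (rapp (allRange (chk CG.TD4.app iv CG.TD4.bs false facts nd rules)) (fun _ _ _ => allRange_append) 44 (rapp (allRange (chk CG.TD4.app iv CG.TD4.bs false facts nd rules)) (fun _ _ _ => allRange_append) 21 c127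
    c128 rfl rfl)
    (rapp (allRange (chk CG.TD4.app iv CG.TD4.bs false facts nd rules)) (fun _ _ _ => allRange_append) 23 c129
    c130 rfl rfl) rfl rfl)
    (rapp (allRange (chk CG.TD4.app iv CG.TD4.bs false facts nd rules)) (fun _ _ _ => allRange_append) 60 (rapp (allRange (chk CG.TD4.app iv CG.TD4.bs false facts nd rules)) (fun _ _ _ => allRange_append) 23 c131
    c132 rfl rfl)
    (rapp (allRange (chk CG.TD4.app iv CG.TD4.bs false facts nd rules)) (fun _ _ _ => allRange_append) 37 c133
    (rapp (allRange (chk CG.TD4.app iv CG.TD4.bs false facts nd rules)) (fun _ _ _ => allRange_append) 25 c134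
    c135 rfl rfl) rfl rfl) rfl rfl) rfl rfl)
    (rapp (allRange (chk CG.TD4.app iv CG.TD4.bs false facts nd rules)) (fun _ _ _ => allRange_append) 97 (rapp (allRange (chk CG.TD4.app iv CG.TD4.bs false facts nd rules)) (fun _ _ _ => allRange_append) 45 (rapp (allRange (chk CG.TD4.app iv CG.TD4.bs false facts nd rules)) (fun _ _ _ => allRange_append) 22 c136
    c137 rfl rfl)
    (rapp (allRange (chk CG.TD4.app iv CG.TD4.bs false facts nd rules)) (fun _ _ _ => allRange_append) 23 c138
    c139 rfl rfl) rfl rfl)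
    (rapp (allRange (chk CG.TD4.app iv CG.TD4.bs false facts nd rules)) (fun _ _ _ => allRange_append) 52 (rapp (allRange (chk CG.TD4.app iv CG.TD4.bs false facts nd rules)) (fun _ _ _ => allRange_append) 21 c140
    c141 rfl rfl)
    (rapp (allRange (chk CG.TD4.app iv CG.TD4.bs false facts nd rules)) (fun _ _ _ => allRange_append) 31 c142
    (rapp (allRange (chk CG.TD4.app iv CG.TD4.bs false facts nd rules)) (fun _ _ _ => allRange_append) 21 c143
    c144 rfl rfl) rfl rfl) rfl rfl) rfl rfl) rfl rfl) rfl rfl) rfl rfl) rfl rfl)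
    (rapp (allRange (chk CG.TD4.app iv CG.TD4.bs false facts nd rules)) (fun _ _ _ => allRange_append) 1522 (rapp (allRange (chk CG.TD4.app iv CG.TD4.bs false facts nd rules)) (fun _ _ _ => allRange_append) 774 (rapp (allRange (chk CG.TD4.app iv CG.TD4.bs false facts nd rules)) (fun _ _ _ => allRange_append) 378 (rapp (allRange (chk CG.TD4.app iv CG.TD4.bs false facts nd rules)) (fun _ _ _ => allRange_append) 185 (rapp (allRange (chk CG.TD4.app iv CG.TD4.bs false facts nd rules)) (fun _ _ _ => allRange_append) 85 (rapp (allRange (chk CG.TD4.app iv CG.TD4.bs false facts nd rules)) (fun _ _ _ => allRange_append) 41 (rapp (allRange (chk CG.TD4.app iv CG.TD4.bs false facts nd rules)) (fun _ _ _ => allRange_append) 19 c145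
    c146 rfl rfl)
    (rapp (allRange (chk CG.TD4.app iv CG.TD4.bs false facts nd rules)) (fun _ _ _ => allRange_append) 22 c147
    c148 rfl rfl) rfl rfl)
    (rapp (allRange (chk CG.TD4.app iv CG.TD4.bs false facts nd rules)) (fun _ _ _ => allRange_append) 44 (rapp (allRange (chk CG.TD4.app iv CG.TD4.bs false facts nd rules)) (fun _ _ _ => allRange_append) 22 c149
    c150 rfl rfl)
    (rapp (allRange (chk CG.TD4.app iv CG.TD4.bs false facts nd rules)) (fun _ _ _ => allRange_append) 22 c151
    c152 rfl rfl) rfl rfl) rfl rfl)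
    (rapp (allRange (chk CG.TD4.app iv CG.TD4.bs false facts nd rules)) (fun _ _ _ => allRange_append) 100 (rapp (allRange (chk CG.TD4.app iv CG.TD4.bs false facts nd rules)) (fun _ _ _ => allRange_append) 43 (rapp (allRange (chk CG.TD4.app iv CG.TD4.bs false facts nd rules)) (fun _ _ _ => allRange_append) 22 c153
    c154 rfl rfl)
    (rapp (allRange (chk CG.TD4.app iv CG.TD4.bs false facts nd rules)) (fun _ _ _ => allRange_append) 21 c155
    c156 rfl rfl) rfl rfl)
    (rapp (allRange (chk CG.TD4.app iv CG.TD4.bs false facts nd rules)) (fun _ _ _ => allRange_append) 57 (rapp (allRange (chk CG.TD4.app iv CG.TD4.bs false facts nd rules)) (fun _ _ _ => allRange_append) 23 c157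
    c158 rfl rfl)
    (rapp (allRange (chk CG.TD4.app iv CG.TD4.bs false facts nd rules)) (fun _ _ _ => allRange_append) 34 c159
    (rapp (allRange (chk CG.TD4.app iv CG.TD4.bs false facts nd rules)) (fun _ _ _ => allRange_append) 22 c160
    c161 rfl rfl) rfl rfl) rfl rfl) rfl rfl) rfl rfl)
    (rapp (allRange (chk CG.TD4.app iv CG.TD4.bs false facts nd rules)) (fun _ _ _ => allRange_append) 193 (rapp (allRange (chk CG.TD4.app iv CG.TD4.bs false facts nd rules)) (fun _ _ _ => allRange_append) 98 (rapp (allRange (chk CG.TD4.app iv CG.TD4.bs false facts nd rules)) (fun _ _ _ => allRange_append) 44 (rapp (allRange (chk CG.TD4.app iv CG.TD4.bs false facts nd rules)) (fun _ _ _ => allRange_append) 22 c162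
    c163 rfl rfl)
    (rapp (allRange (chk CG.TD4.app iv CG.TD4.bs false facts nd rules)) (fun _ _ _ => allRange_append) 22 c164
    c165 rfl rfl) rfl rfl)
    (rapp (allRange (chk CG.TD4.app iv CG.TD4.bs false facts nd rules)) (fun _ _ _ => allRange_append) 54 (rapp (allRange (chk CG.TD4.app iv CG.TD4.bs false facts nd rules)) (fun _ _ _ => allRange_append) 21 c166
    c167 rfl rfl)
    (rapp (allRange (chk CG.TD4.app iv CG.TD4.bs false facts nd rules)) (fun _ _ _ => allRange_append) 33 c168
    (rapp (allRange (chk CG.TD4.app iv CG.TD4.bs false facts nd rules)) (fun _ _ _ => allRange_append) 23 c169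
    c170 rfl rfl) rfl rfl) rfl rfl) rfl rfl)
    (rapp (allRange (chk CG.TD4.app iv CG.TD4.bs false facts nd rules)) (fun _ _ _ => allRange_append) 95 (rapp (allRange (chk CG.TD4.app iv CG.TD4.bs false facts nd rules)) (fun _ _ _ => allRange_append) 39 (rapp (allRange (chk CG.TD4.app iv CG.TD4.bs false facts nd rules)) (fun _ _ _ => allRange_append) 16 c171
    c172 rfl rfl)
    (rapp (allRange (chk CG.TD4.app iv CG.TD4.bs false facts nd rules)) (fun _ _ _ => allRange_append) 23 c173
    c174 rfl rfl) rfl rfl)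
    (rapp (allRange (chk CG.TD4.app iv CG.TD4.bs false facts nd rules)) (fun _ _ _ => allRange_append) 56 (rapp (allRange (chk CG.TD4.app iv CG.TD4.bs false facts nd rules)) (fun _ _ _ => allRange_append) 23 c175
    c176 rfl rfl)
    (rapp (allRange (chk CG.TD4.app iv CG.TD4.bs false facts nd rules)) (fun _ _ _ => allRange_append) 33 c177
    (rapp (allRange (chk CG.TD4.app iv CG.TD4.bs false facts nd rules)) (fun _ _ _ => allRange_append) 22 c178
    c179 rfl rfl) rfl rfl) rfl rfl) rfl rfl) rfl rfl) rfl rfl)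
    (rapp (allRange (chk CG.TD4.app iv CG.TD4.bs false facts nd rules)) (fun _ _ _ => allRange_append) 396 (rapp (allRange (chk CG.TD4.app iv CG.TD4.bs false facts nd rules)) (fun _ _ _ => allRange_append) 202 (rapp (allRange (chk CG.TD4.app iv CG.TD4.bs false facts nd rules)) (fun _ _ _ => allRange_append) 100 (rapp (allRange (chk CG.TD4.app iv CG.TD4.bs false facts nd rules)) (fun _ _ _ => allRange_append) 43 (rapp (allRange (chk CG.TD4.app iv CG.TD4.bs false facts nd rules)) (fun _ _ _ => allRange_append) 20 c180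
    c181 rfl rfl)
    (rapp (allRange (chk CG.TD4.app iv CG.TD4.bs false facts nd rules)) (fun _ _ _ => allRange_append) 23 c182
    c183 rfl rfl) rfl rfl)
    (rapp (allRange (chk CG.TD4.app iv CG.TD4.bs false facts nd rules)) (fun _ _ _ => allRange_append) 57 (rapp (allRange (chk CG.TD4.app iv CG.TD4.bs false facts nd rules)) (fun _ _ _ => allRange_append) 23 c184
    c185 rfl rfl)
    (rapp (allRange (chk CG.TD4.app iv CG.TD4.bs false facts nd rules)) (fun _ _ _ => allRange_append) 34 c186
    (rapp (allRange (chk CG.TD4.app iv CG.TD4.bs false facts nd rules)) (fun _ _ _ => allRange_append) 22 c187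
    c188 rfl rfl) rfl rfl) rfl rfl) rfl rfl)
    (rapp (allRange (chk CG.TD4.app iv CG.TD4.bs false facts nd rules)) (fun _ _ _ => allRange_append) 102 (rapp (allRange (chk CG.TD4.app iv CG.TD4.bs false facts nd rules)) (fun _ _ _ => allRange_append) 45 (rapp (allRange (chk CG.TD4.app iv CG.TD4.bs false facts nd rules)) (fun _ _ _ => allRange_append) 23 c189
    c190 rfl rfl)
    (rapp (allRange (chk CG.TD4.app iv CG.TD4.bs false facts nd rules)) (fun _ _ _ => allRange_append) 22 c191
    c192 rfl rfl) rfl rfl)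
    (rapp (allRange (chk CG.TD4.app iv CG.TD4.bs false facts nd rules)) (fun _ _ _ => allRange_append) 57 (rapp (allRange (chk CG.TD4.app iv CG.TD4.bs false facts nd rules)) (fun _ _ _ => allRange_append) 22 c193
    c194 rfl rfl)
    (rapp (allRange (chk CG.TD4.app iv CG.TD4.bs false facts nd rules)) (fun _ _ _ => allRange_append) 35 c195
    (rapp (allRange (chk CG.TD4.app iv CG.TD4.bs false facts nd rules)) (fun _ _ _ => allRange_append) 23 c196
    c197 rfl rfl) rfl rfl) rfl rfl) rfl rfl) rfl rfl)
    (rapp (allRange (chk CG.TD4.app iv CG.TD4.bs false facts nd rules)) (fun _ _ _ => allRange_append) 194 (rapp (allRange (chk CG.TD4.app iv CG.TD4.bs false facts nd rules)) (fun _ _ _ => allRange_append) 102 (rapp (allRange (chk CG.TD4.app iv CG.TD4.bs false facts nd rules)) (fun _ _ _ => allRange_append) 49 (rapp (allRange (chk CG.TD4.app iv CG.TD4.bs false facts nd rules)) (fun _ _ _ => allRange_append) 26 c198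
    c199 rfl rfl)
    (rapp (allRange (chk CG.TD4.app iv CG.TD4.bs false facts nd rules)) (fun _ _ _ => allRange_append) 23 c200
    c201 rfl rfl) rfl rfl)
    (rapp (allRange (chk CG.TD4.app iv CG.TD4.bs false facts nd rules)) (fun _ _ _ => allRange_append) 53 (rapp (allRange (chk CG.TD4.app iv CG.TD4.bs false facts nd rules)) (fun _ _ _ => allRange_append) 21 c202
    c203 rfl rfl)
    (rapp (allRange (chk CG.TD4.app iv CG.TD4.bs false facts nd rules)) (fun _ _ _ => allRange_append) 32 c204
    (rapp (allRange (chk CG.TD4.app iv CG.TD4.bs false facts nd rules)) (fun _ _ _ => allRange_append) 20 c205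
    c206 rfl rfl) rfl rfl) rfl rfl) rfl rfl)
    (rapp (allRange (chk CG.TD4.app iv CG.TD4.bs false facts nd rules)) (fun _ _ _ => allRange_append) 92 (rapp (allRange (chk CG.TD4.app iv CG.TD4.bs false facts nd rules)) (fun _ _ _ => allRange_append) 42 (rapp (allRange (chk CG.TD4.app iv CG.TD4.bs false facts nd rules)) (fun _ _ _ => allRange_append) 18 c207
    c208 rfl rfl)
    (rapp (allRange (chk CG.TD4.app iv CG.TD4.bs false facts nd rules)) (fun _ _ _ => allRange_append) 24 c209
    c210 rfl rfl) rfl rfl)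
    (rapp (allRange (chk CG.TD4.app iv CG.TD4.bs false facts nd rules)) (fun _ _ _ => allRange_append) 50 (rapp (allRange (chk CG.TD4.app iv CG.TD4.bs false facts nd rules)) (fun _ _ _ => allRange_append) 17 c211
    c212 rfl rfl)
    (rapp (allRange (chk CG.TD4.app iv CG.TD4.bs false facts nd rules)) (fun _ _ _ => allRange_append) 33 c213
    (rapp (allRange (chk CG.TD4.app iv CG.TD4.bs false facts nd rules)) (fun _ _ _ => allRange_append) 22 c214
    c215 rfl rfl) rfl rfl) rfl rfl) rfl rfl) rfl rfl) rfl rfl) rfl rfl)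
    (rapp (allRange (chk CG.TD4.app iv CG.TD4.bs false facts nd rules)) (fun _ _ _ => allRange_append) 748 (rapp (allRange (chk CG.TD4.app iv CG.TD4.bs false facts nd rules)) (fun _ _ _ => allRange_append) 372 (rapp (allRange (chk CG.TD4.app iv CG.TD4.bs false facts nd rules)) (fun _ _ _ => allRange_append) 175 (rapp (allRange (chk CG.TD4.app iv CG.TD4.bs false facts nd rules)) (fun _ _ _ => allRange_append) 80 (rapp (allRange (chk CG.TD4.app iv CG.TD4.bs false facts nd rules)) (fun _ _ _ => allRange_append) 44 (rapp (allRange (chk CG.TD4.app iv CG.TD4.bs false facts nd rules)) (fun _ _ _ => allRange_append) 21 c216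
    c217 rfl rfl)
    (rapp (allRange (chk CG.TD4.app iv CG.TD4.bs false facts nd rules)) (fun _ _ _ => allRange_append) 23 c218
    c219 rfl rfl) rfl rfl)
    (rapp (allRange (chk CG.TD4.app iv CG.TD4.bs false facts nd rules)) (fun _ _ _ => allRange_append) 36 (rapp (allRange (chk CG.TD4.app iv CG.TD4.bs false facts nd rules)) (fun _ _ _ => allRange_append) 19 c220
    c221 rfl rfl)
    (rapp (allRange (chk CG.TD4.app iv CG.TD4.bs false facts nd rules)) (fun _ _ _ => allRange_append) 17 c222
    c223 rfl rfl) rfl rfl) rfl rfl)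
    (rapp (allRange (chk CG.TD4.app iv CG.TD4.bs false facts nd rules)) (fun _ _ _ => allRange_append) 95 (rapp (allRange (chk CG.TD4.app iv CG.TD4.bs false facts nd rules)) (fun _ _ _ => allRange_append) 41 (rapp (allRange (chk CG.TD4.app iv CG.TD4.bs false facts nd rules)) (fun _ _ _ => allRange_append) 21 c224
    c225 rfl rfl)
    (rapp (allRange (chk CG.TD4.app iv CG.TD4.bs false facts nd rules)) (fun _ _ _ => allRange_append) 20 c226
    c227 rfl rfl) rfl rfl)
    (rapp (allRange (chk CG.TD4.app iv CG.TD4.bs false facts nd rules)) (fun _ _ _ => allRange_append) 54 (rapp (allRange (chk CG.TD4.app iv CG.TD4.bs false facts nd rules)) (fun _ _ _ => allRange_append) 22 c228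
    c229 rfl rfl)
    (rapp (allRange (chk CG.TD4.app iv CG.TD4.bs false facts nd rules)) (fun _ _ _ => allRange_append) 32 c230
    (rapp (allRange (chk CG.TD4.app iv CG.TD4.bs false facts nd rules)) (fun _ _ _ => allRange_append) 18 c231
    c232 rfl rfl) rfl rfl) rfl rfl) rfl rfl) rfl rfl)
    (rapp (allRange (chk CG.TD4.app iv CG.TD4.bs false facts nd rules)) (fun _ _ _ => allRange_append) 197 (rapp (allRange (chk CG.TD4.app iv CG.TD4.bs false facts nd rules)) (fun _ _ _ => allRange_append) 102 (rapp (allRange (chk CG.TD4.app iv CG.TD4.bs false facts nd rules)) (fun _ _ _ => allRange_append) 48 (rapp (allRange (chk CG.TD4.app iv CG.TD4.bs false facts nd rules)) (fun _ _ _ => allRange_append) 26 c233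
    c234 rfl rfl)
    (rapp (allRange (chk CG.TD4.app iv CG.TD4.bs false facts nd rules)) (fun _ _ _ => allRange_append) 22 c235
    c236 rfl rfl) rfl rfl)
    (rapp (allRange (chk CG.TD4.app iv CG.TD4.bs false facts nd rules)) (fun _ _ _ => allRange_append) 54 (rapp (allRange (chk CG.TD4.app iv CG.TD4.bs false facts nd rules)) (fun _ _ _ => allRange_append) 23 c237
    c238 rfl rfl)
    (rapp (allRange (chk CG.TD4.app iv CG.TD4.bs false facts nd rules)) (fun _ _ _ => allRange_append) 31 c239
    (rapp (allRange (chk CG.TD4.app iv CG.TD4.bs false facts nd rules)) (fun _ _ _ => allRange_append) 22 c240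
    c241 rfl rfl) rfl rfl) rfl rfl) rfl rfl)
    (rapp (allRange (chk CG.TD4.app iv CG.TD4.bs false facts nd rules)) (fun _ _ _ => allRange_append) 95 (rapp (allRange (chk CG.TD4.app iv CG.TD4.bs false facts nd rules)) (fun _ _ _ => allRange_append) 43 (rapp (allRange (chk CG.TD4.app iv CG.TD4.bs false facts nd rules)) (fun _ _ _ => allRange_append) 24 c242
    c243 rfl rfl)
    (rapp (allRange (chk CG.TD4.app iv CG.TD4.bs false facts nd rules)) (fun _ _ _ => allRange_append) 19 c244
    c245 rfl rfl) rfl rfl)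
    (rapp (allRange (chk CG.TD4.app iv CG.TD4.bs false facts nd rules)) (fun _ _ _ => allRange_append) 52 (rapp (allRange (chk CG.TD4.app iv CG.TD4.bs false facts nd rules)) (fun _ _ _ => allRange_append) 22 c246
    c247 rfl rfl)
    (rapp (allRange (chk CG.TD4.app iv CG.TD4.bs false facts nd rules)) (fun _ _ _ => allRange_append) 30 c248
    (rapp (allRange (chk CG.TD4.app iv CG.TD4.bs false facts nd rules)) (fun _ _ _ => allRange_append) 19 c249
    c250 rfl rfl) rfl rfl) rfl rfl) rfl rfl) rfl rfl) rfl rfl)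
    (rapp (allRange (chk CG.TD4.app iv CG.TD4.bs false facts nd rules)) (fun _ _ _ => allRange_append) 376 (rapp (allRange (chk CG.TD4.app iv CG.TD4.bs false facts nd rules)) (fun _ _ _ => allRange_append) 177 (rapp (allRange (chk CG.TD4.app iv CG.TD4.bs false facts nd rules)) (fun _ _ _ => allRange_append) 86 (rapp (allRange (chk CG.TD4.app iv CG.TD4.bs false facts nd rules)) (fun _ _ _ => allRange_append) 43 (rapp (allRange (chk CG.TD4.app iv CG.TD4.bs false facts nd rules)) (fun _ _ _ => allRange_append) 21 c251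
    c252 rfl rfl)
    (rapp (allRange (chk CG.TD4.app iv CG.TD4.bs false facts nd rules)) (fun _ _ _ => allRange_append) 22 c253
    c254 rfl rfl) rfl rfl)
    (rapp (allRange (chk CG.TD4.app iv CG.TD4.bs false facts nd rules)) (fun _ _ _ => allRange_append) 43 (rapp (allRange (chk CG.TD4.app iv CG.TD4.bs false facts nd rules)) (fun _ _ _ => allRange_append) 15 c255
    c256 rfl rfl)
    (rapp (allRange (chk CG.TD4.app iv CG.TD4.bs false facts nd rules)) (fun _ _ _ => allRange_append) 28 c257
    (rapp (allRange (chk CG.TD4.app iv CG.TD4.bs false facts nd rules)) (fun _ _ _ => allRange_append) 19 c258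
    c259 rfl rfl) rfl rfl) rfl rfl) rfl rfl)
    (rapp (allRange (chk CG.TD4.app iv CG.TD4.bs false facts nd rules)) (fun _ _ _ => allRange_append) 91 (rapp (allRange (chk CG.TD4.app iv CG.TD4.bs false facts nd rules)) (fun _ _ _ => allRange_append) 40 (rapp (allRange (chk CG.TD4.app iv CG.TD4.bs false facts nd rules)) (fun _ _ _ => allRange_append) 18 c260
    c261 rfl rfl)
    (rapp (allRange (chk CG.TD4.app iv CG.TD4.bs false facts nd rules)) (fun _ _ _ => allRange_append) 22 c262
    c263 rfl rfl) rfl rfl)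
    (rapp (allRange (chk CG.TD4.app iv CG.TD4.bs false facts nd rules)) (fun _ _ _ => allRange_append) 51 (rapp (allRange (chk CG.TD4.app iv CG.TD4.bs false facts nd rules)) (fun _ _ _ => allRange_append) 19 c264
    c265 rfl rfl)
    (rapp (allRange (chk CG.TD4.app iv CG.TD4.bs false facts nd rules)) (fun _ _ _ => allRange_append) 32 c266
    (rapp (allRange (chk CG.TD4.app iv CG.TD4.bs false facts nd rules)) (fun _ _ _ => allRange_append) 22 c267
    c268 rfl rfl) rfl rfl) rfl rfl) rfl rfl) rfl rfl)
    (rapp (allRange (chk CG.TD4.app iv CG.TD4.bs false facts nd rules)) (fun _ _ _ => allRange_append) 199 (rapp (allRange (chk CG.TD4.app iv CG.TD4.bs false facts nd rules)) (fun _ _ _ => allRange_append) 108 (rapp (allRange (chk CG.TD4.app iv CG.TD4.bs false facts nd rules)) (fun _ _ _ => allRange_append) 46 (rapp (allRange (chk CG.TD4.app iv CG.TD4.bs false facts nd rules)) (fun _ _ _ => allRange_append) 23 c269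
    c270 rfl rfl)
    (rapp (allRange (chk CG.TD4.app iv CG.TD4.bs false facts nd rules)) (fun _ _ _ => allRange_append) 23 c271
    c272 rfl rfl) rfl rfl)
    (rapp (allRange (chk CG.TD4.app iv CG.TD4.bs false facts nd rules)) (fun _ _ _ => allRange_append) 62 (rapp (allRange (chk CG.TD4.app iv CG.TD4.bs false facts nd rules)) (fun _ _ _ => allRange_append) 23 c273
    c274 rfl rfl)
    (rapp (allRange (chk CG.TD4.app iv CG.TD4.bs false facts nd rules)) (fun _ _ _ => allRange_append) 39 c275
    (rapp (allRange (chk CG.TD4.app iv CG.TD4.bs false facts nd rules)) (fun _ _ _ => allRange_append) 27 c276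
    c277 rfl rfl) rfl rfl) rfl rfl) rfl rfl)
    (rapp (allRange (chk CG.TD4.app iv CG.TD4.bs false facts nd rules)) (fun _ _ _ => allRange_append) 91 (rapp (allRange (chk CG.TD4.app iv CG.TD4.bs false facts nd rules)) (fun _ _ _ => allRange_append) 37 (rapp (allRange (chk CG.TD4.app iv CG.TD4.bs false facts nd rules)) (fun _ _ _ => allRange_append) 19 c278
    c279 rfl rfl)
    (rapp (allRange (chk CG.TD4.app iv CG.TD4.bs false facts nd rules)) (fun _ _ _ => allRange_append) 18 c280
    c281 rfl rfl) rfl rfl)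
    (rapp (allRange (chk CG.TD4.app iv CG.TD4.bs false facts nd rules)) (fun _ _ _ => allRange_append) 54 (rapp (allRange (chk CG.TD4.app iv CG.TD4.bs false facts nd rules)) (fun _ _ _ => allRange_append) 24 c282
    c283 rfl rfl)
    (rapp (allRange (chk CG.TD4.app iv CG.TD4.bs false facts nd rules)) (fun _ _ _ => allRange_append) 30 c284
    (rapp (allRange (chk CG.TD4.app iv CG.TD4.bs false facts nd rules)) (fun _ _ _ => allRange_append) 19 c285
    c286 rfl rfl) rfl rfl) rfl rfl) rfl rfl) rfl rfl) rfl rfl) rfl rfl) rfl rfl) rfl rfl)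
    (rapp (allRange (chk CG.TD4.app iv CG.TD4.bs false facts nd rules)) (fun _ _ _ => allRange_append) 2887 (rapp (allRange (chk CG.TD4.app iv CG.TD4.bs false facts nd rules)) (fun _ _ _ => allRange_append) 1552 (rapp (allRange (chk CG.TD4.app iv CG.TD4.bs false facts nd rules)) (fun _ _ _ => allRange_append) 789 (rapp (allRange (chk CG.TD4.app iv CG.TD4.bs false facts nd rules)) (fun _ _ _ => allRange_append) 374 (rapp (allRange (chk CG.TD4.app iv CG.TD4.bs false facts nd rules)) (fun _ _ _ => allRange_append) 176 (rapp (allRange (chk CG.TD4.app iv CG.TD4.bs false facts nd rules)) (fun _ _ _ => allRange_append) 80 (rapp (allRange (chk CG.TD4.app iv CG.TD4.bs false facts nd rules)) (fun _ _ _ => allRange_append) 40 (rapp (allRange (chk CG.TD4.app iv CG.TD4.bs false facts nd rules)) (fun _ _ _ => allRange_append) 21 c287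
    c288 rfl rfl)
    (rapp (allRange (chk CG.TD4.app iv CG.TD4.bs false facts nd rules)) (fun _ _ _ => allRange_append) 19 c289
    c290 rfl rfl) rfl rfl)
    (rapp (allRange (chk CG.TD4.app iv CG.TD4.bs false facts nd rules)) (fun _ _ _ => allRange_append) 40 (rapp (allRange (chk CG.TD4.app iv CG.TD4.bs false facts nd rules)) (fun _ _ _ => allRange_append) 22 c291
    c292 rfl rfl)
    (rapp (allRange (chk CG.TD4.app iv CG.TD4.bs false facts nd rules)) (fun _ _ _ => allRange_append) 18 c293
    c294 rfl rfl) rfl rfl) rfl rfl)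
    (rapp (allRange (chk CG.TD4.app iv CG.TD4.bs false facts nd rules)) (fun _ _ _ => allRange_append) 96 (rapp (allRange (chk CG.TD4.app iv CG.TD4.bs false facts nd rules)) (fun _ _ _ => allRange_append) 42 (rapp (allRange (chk CG.TD4.app iv CG.TD4.bs false facts nd rules)) (fun _ _ _ => allRange_append) 19 c295
    c296 rfl rfl)
    (rapp (allRange (chk CG.TD4.app iv CG.TD4.bs false facts nd rules)) (fun _ _ _ => allRange_append) 23 c297
    c298 rfl rfl) rfl rfl)
    (rapp (allRange (chk CG.TD4.app iv CG.TD4.bs false facts nd rules)) (fun _ _ _ => allRange_append) 54 (rapp (allRange (chk CG.TD4.app iv CG.TD4.bs false facts nd rules)) (fun _ _ _ => allRange_append) 24 c299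
    c300 rfl rfl)
    (rapp (allRange (chk CG.TD4.app iv CG.TD4.bs false facts nd rules)) (fun _ _ _ => allRange_append) 30 c301
    (rapp (allRange (chk CG.TD4.app iv CG.TD4.bs false facts nd rules)) (fun _ _ _ => allRange_append) 20 c302
    c303 rfl rfl) rfl rfl) rfl rfl) rfl rfl) rfl rfl)
    (rapp (allRange (chk CG.TD4.app iv CG.TD4.bs false facts nd rules)) (fun _ _ _ => allRange_append) 198 (rapp (allRange (chk CG.TD4.app iv CG.TD4.bs false facts nd rules)) (fun _ _ _ => allRange_append) 87 (rapp (allRange (chk CG.TD4.app iv CG.TD4.bs false facts nd rules)) (fun _ _ _ => allRange_append) 38 (rapp (allRange (chk CG.TD4.app iv CG.TD4.bs false facts nd rules)) (fun _ _ _ => allRange_append) 16 c304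
    c305 rfl rfl)
    (rapp (allRange (chk CG.TD4.app iv CG.TD4.bs false facts nd rules)) (fun _ _ _ => allRange_append) 22 c306
    c307 rfl rfl) rfl rfl)
    (rapp (allRange (chk CG.TD4.app iv CG.TD4.bs false facts nd rules)) (fun _ _ _ => allRange_append) 49 (rapp (allRange (chk CG.TD4.app iv CG.TD4.bs false facts nd rules)) (fun _ _ _ => allRange_append) 17 c308
    c309 rfl rfl)
    (rapp (allRange (chk CG.TD4.app iv CG.TD4.bs false facts nd rules)) (fun _ _ _ => allRange_append) 32 c310
    (rapp (allRange (chk CG.TD4.app iv CG.TD4.bs false facts nd rules)) (fun _ _ _ => allRange_append) 23 c311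
    c312 rfl rfl) rfl rfl) rfl rfl) rfl rfl)
    (rapp (allRange (chk CG.TD4.app iv CG.TD4.bs false facts nd rules)) (fun _ _ _ => allRange_append) 111 (rapp (allRange (chk CG.TD4.app iv CG.TD4.bs false facts nd rules)) (fun _ _ _ => allRange_append) 50 (rapp (allRange (chk CG.TD4.app iv CG.TD4.bs false facts nd rules)) (fun _ _ _ => allRange_append) 26 c313
    c314 rfl rfl)
    (rapp (allRange (chk CG.TD4.app iv CG.TD4.bs false facts nd rules)) (fun _ _ _ => allRange_append) 24 c315
    c316 rfl rfl) rfl rfl)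
    (rapp (allRange (chk CG.TD4.app iv CG.TD4.bs false facts nd rules)) (fun _ _ _ => allRange_append) 61 (rapp (allRange (chk CG.TD4.app iv CG.TD4.bs false facts nd rules)) (fun _ _ _ => allRange_append) 25 c317
    c318 rfl rfl)
    (rapp (allRange (chk CG.TD4.app iv CG.TD4.bs false facts nd rules)) (fun _ _ _ => allRange_append) 36 c319
    (rapp (allRange (chk CG.TD4.app iv CG.TD4.bs false facts nd rules)) (fun _ _ _ => allRange_append) 24 c320
    c321 rfl rfl) rfl rfl) rfl rfl) rfl rfl) rfl rfl) rfl rfl)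
    (rapp (allRange (chk CG.TD4.app iv CG.TD4.bs false facts nd rules)) (fun _ _ _ => allRange_append) 415 (rapp (allRange (chk CG.TD4.app iv CG.TD4.bs false facts nd rules)) (fun _ _ _ => allRange_append) 199 (rapp (allRange (chk CG.TD4.app iv CG.TD4.bs false facts nd rules)) (fun _ _ _ => allRange_append) 93 (rapp (allRange (chk CG.TD4.app iv CG.TD4.bs false facts nd rules)) (fun _ _ _ => allRange_append) 47 (rapp (allRange (chk CG.TD4.app iv CG.TD4.bs false facts nd rules)) (fun _ _ _ => allRange_append) 24 c322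
    c323 rfl rfl)
    (rapp (allRange (chk CG.TD4.app iv CG.TD4.bs false facts nd rules)) (fun _ _ _ => allRange_append) 23 c324
    c325 rfl rfl) rfl rfl)
    (rapp (allRange (chk CG.TD4.app iv CG.TD4.bs false facts nd rules)) (fun _ _ _ => allRange_append) 46 (rapp (allRange (chk CG.TD4.app iv CG.TD4.bs false facts nd rules)) (fun _ _ _ => allRange_append) 25 c326
    c327 rfl rfl)
    (rapp (allRange (chk CG.TD4.app iv CG.TD4.bs false facts nd rules)) (fun _ _ _ => allRange_append) 21 c328
    c329 rfl rfl) rfl rfl) rfl rfl)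
    (rapp (allRange (chk CG.TD4.app iv CG.TD4.bs false facts nd rules)) (fun _ _ _ => allRange_append) 106 (rapp (allRange (chk CG.TD4.app iv CG.TD4.bs false facts nd rules)) (fun _ _ _ => allRange_append) 48 (rapp (allRange (chk CG.TD4.app iv CG.TD4.bs false facts nd rules)) (fun _ _ _ => allRange_append) 24 c330
    c331 rfl rfl)
    (rapp (allRange (chk CG.TD4.app iv CG.TD4.bs false facts nd rules)) (fun _ _ _ => allRange_append) 24 c332
    c333 rfl rfl) rfl rfl)
    (rapp (allRange (chk CG.TD4.app iv CG.TD4.bs false facts nd rules)) (fun _ _ _ => allRange_append) 58 (rapp (allRange (chk CG.TD4.app iv CG.TD4.bs false facts nd rules)) (fun _ _ _ => allRange_append) 24 c334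
    c335 rfl rfl)
    (rapp (allRange (chk CG.TD4.app iv CG.TD4.bs false facts nd rules)) (fun _ _ _ => allRange_append) 34 c336
    (rapp (allRange (chk CG.TD4.app iv CG.TD4.bs false facts nd rules)) (fun _ _ _ => allRange_append) 23 c337
    c338 rfl rfl) rfl rfl) rfl rfl) rfl rfl) rfl rfl)
    (rapp (allRange (chk CG.TD4.app iv CG.TD4.bs false facts nd rules)) (fun _ _ _ => allRange_append) 216 (rapp (allRange (chk CG.TD4.app iv CG.TD4.bs false facts nd rules)) (fun _ _ _ => allRange_append) 109 (rapp (allRange (chk CG.TD4.app iv CG.TD4.bs false facts nd rules)) (fun _ _ _ => allRange_append) 49 (rapp (allRange (chk CG.TD4.app iv CG.TD4.bs false facts nd rules)) (fun _ _ _ => allRange_append) 25 c339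
    c340 rfl rfl)
    (rapp (allRange (chk CG.TD4.app iv CG.TD4.bs false facts nd rules)) (fun _ _ _ => allRange_append) 24 c341
    c342 rfl rfl) rfl rfl)
    (rapp (allRange (chk CG.TD4.app iv CG.TD4.bs false facts nd rules)) (fun _ _ _ => allRange_append) 60 (rapp (allRange (chk CG.TD4.app iv CG.TD4.bs false facts nd rules)) (fun _ _ _ => allRange_append) 24 c343
    c344 rfl rfl)
    (rapp (allRange (chk CG.TD4.app iv CG.TD4.bs false facts nd rules)) (fun _ _ _ => allRange_append) 36 c345
    (rapp (allRange (chk CG.TD4.app iv CG.TD4.bs false facts nd rules)) (fun _ _ _ => allRange_append) 24 c346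
    c347 rfl rfl) rfl rfl) rfl rfl) rfl rfl)
    (rapp (allRange (chk CG.TD4.app iv CG.TD4.bs false facts nd rules)) (fun _ _ _ => allRange_append) 107 (rapp (allRange (chk CG.TD4.app iv CG.TD4.bs false facts nd rules)) (fun _ _ _ => allRange_append) 49 (rapp (allRange (chk CG.TD4.app iv CG.TD4.bs false facts nd rules)) (fun _ _ _ => allRange_append) 25 c348
    c349 rfl rfl)
    (rapp (allRange (chk CG.TD4.app iv CG.TD4.bs false facts nd rules)) (fun _ _ _ => allRange_append) 24 c350
    c351 rfl rfl) rfl rfl)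
    (rapp (allRange (chk CG.TD4.app iv CG.TD4.bs false facts nd rules)) (fun _ _ _ => allRange_append) 58 (rapp (allRange (chk CG.TD4.app iv CG.TD4.bs false facts nd rules)) (fun _ _ _ => allRange_append) 22 c352
    c353 rfl rfl)
    (rapp (allRange (chk CG.TD4.app iv CG.TD4.bs false facts nd rules)) (fun _ _ _ => allRange_append) 36 c354
    (rapp (allRange (chk CG.TD4.app iv CG.TD4.bs false facts nd rules)) (fun _ _ _ => allRange_append) 24 c355
    c356 rfl rfl) rfl rfl) rfl rfl) rfl rfl) rfl rfl) rfl rfl) rfl rfl)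
    (rapp (allRange (chk CG.TD4.app iv CG.TD4.bs false facts nd rules)) (fun _ _ _ => allRange_append) 763 (rapp (allRange (chk CG.TD4.app iv CG.TD4.bs false facts nd rules)) (fun _ _ _ => allRange_append) 396 (rapp (allRange (chk CG.TD4.app iv CG.TD4.bs false facts nd rules)) (fun _ _ _ => allRange_append) 203 (rapp (allRange (chk CG.TD4.app iv CG.TD4.bs false facts nd rules)) (fun _ _ _ => allRange_append) 98 (rapp (allRange (chk CG.TD4.app iv CG.TD4.bs false facts nd rules)) (fun _ _ _ => allRange_append) 48 (rapp (allRange (chk CG.TD4.app iv CG.TD4.bs false facts nd rules)) (fun _ _ _ => allRange_append) 23 c357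
    c358 rfl rfl)
    (rapp (allRange (chk CG.TD4.app iv CG.TD4.bs false facts nd rules)) (fun _ _ _ => allRange_append) 25 c359
    c360 rfl rfl) rfl rfl)
    (rapp (allRange (chk CG.TD4.app iv CG.TD4.bs false facts nd rules)) (fun _ _ _ => allRange_append) 50 (rapp (allRange (chk CG.TD4.app iv CG.TD4.bs false facts nd rules)) (fun _ _ _ => allRange_append) 24 c361
    c362 rfl rfl)
    (rapp (allRange (chk CG.TD4.app iv CG.TD4.bs false facts nd rules)) (fun _ _ _ => allRange_append) 26 c363
    c364 rfl rfl) rfl rfl) rfl rfl)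
    (rapp (allRange (chk CG.TD4.app iv CG.TD4.bs false facts nd rules)) (fun _ _ _ => allRange_append) 105 (rapp (allRange (chk CG.TD4.app iv CG.TD4.bs false facts nd rules)) (fun _ _ _ => allRange_append) 47 (rapp (allRange (chk CG.TD4.app iv CG.TD4.bs false facts nd rules)) (fun _ _ _ => allRange_append) 24 c365
    c366 rfl rfl)
    (rapp (allRange (chk CG.TD4.app iv CG.TD4.bs false facts nd rules)) (fun _ _ _ => allRange_append) 23 c367
    c368 rfl rfl) rfl rfl)
    (rapp (allRange (chk CG.TD4.app iv CG.TD4.bs false facts nd rules)) (fun _ _ _ => allRange_append) 58 (rapp (allRange (chk CG.TD4.app iv CG.TD4.bs false facts nd rules)) (fun _ _ _ => allRange_append) 23 c369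
    c370 rfl rfl)
    (rapp (allRange (chk CG.TD4.app iv CG.TD4.bs false facts nd rules)) (fun _ _ _ => allRange_append) 35 c371
    (rapp (allRange (chk CG.TD4.app iv CG.TD4.bs false facts nd rules)) (fun _ _ _ => allRange_append) 23 c372
    c373 rfl rfl) rfl rfl) rfl rfl) rfl rfl) rfl rfl)
    (rapp (allRange (chk CG.TD4.app iv CG.TD4.bs false facts nd rules)) (fun _ _ _ => allRange_append) 193 (rapp (allRange (chk CG.TD4.app iv CG.TD4.bs false facts nd rules)) (fun _ _ _ => allRange_append) 108 (rapp (allRange (chk CG.TD4.app iv CG.TD4.bs false facts nd rules)) (fun _ _ _ => allRange_append) 48 (rapp (allRange (chk CG.TD4.app iv CG.TD4.bs false facts nd rules)) (fun _ _ _ => allRange_append) 22 c374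
    c375 rfl rfl)
    (rapp (allRange (chk CG.TD4.app iv CG.TD4.bs false facts nd rules)) (fun _ _ _ => allRange_append) 26 c376
    c377 rfl rfl) rfl rfl)
    (rapp (allRange (chk CG.TD4.app iv CG.TD4.bs false facts nd rules)) (fun _ _ _ => allRange_append) 60 (rapp (allRange (chk CG.TD4.app iv CG.TD4.bs false facts nd rules)) (fun _ _ _ => allRange_append) 24 c378
    c379 rfl rfl)
    (rapp (allRange (chk CG.TD4.app iv CG.TD4.bs false facts nd rules)) (fun _ _ _ => allRange_append) 36 c380
    (rapp (allRange (chk CG.TD4.app iv CG.TD4.bs false facts nd rules)) (fun _ _ _ => allRange_append) 24 c381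
    c382 rfl rfl) rfl rfl) rfl rfl) rfl rfl)
    (rapp (allRange (chk CG.TD4.app iv CG.TD4.bs false facts nd rules)) (fun _ _ _ => allRange_append) 85 (rapp (allRange (chk CG.TD4.app iv CG.TD4.bs false facts nd rules)) (fun _ _ _ => allRange_append) 40 (rapp (allRange (chk CG.TD4.app iv CG.TD4.bs false facts nd rules)) (fun _ _ _ => allRange_append) 18 c383
    c384 rfl rfl)
    (rapp (allRange (chk CG.TD4.app iv CG.TD4.bs false facts nd rules)) (fun _ _ _ => allRange_append) 22 c385
    c386 rfl rfl) rfl rfl)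
    (rapp (allRange (chk CG.TD4.app iv CG.TD4.bs false facts nd rules)) (fun _ _ _ => allRange_append) 45 (rapp (allRange (chk CG.TD4.app iv CG.TD4.bs false facts nd rules)) (fun _ _ _ => allRange_append) 19 c387
    c388 rfl rfl)
    (rapp (allRange (chk CG.TD4.app iv CG.TD4.bs false facts nd rules)) (fun _ _ _ => allRange_append) 26 c389
    (rapp (allRange (chk CG.TD4.app iv CG.TD4.bs false facts nd rules)) (fun _ _ _ => allRange_append) 16 c390
    c391 rfl rfl) rfl rfl) rfl rfl) rfl rfl) rfl rfl) rfl rfl)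
    (rapp (allRange (chk CG.TD4.app iv CG.TD4.bs false facts nd rules)) (fun _ _ _ => allRange_append) 367 (rapp (allRange (chk CG.TD4.app iv CG.TD4.bs false facts nd rules)) (fun _ _ _ => allRange_append) 179 (rapp (allRange (chk CG.TD4.app iv CG.TD4.bs false facts nd rules)) (fun _ _ _ => allRange_append) 83 (rapp (allRange (chk CG.TD4.app iv CG.TD4.bs false facts nd rules)) (fun _ _ _ => allRange_append) 35 (rapp (allRange (chk CG.TD4.app iv CG.TD4.bs false facts nd rules)) (fun _ _ _ => allRange_append) 17 c392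
    c393 rfl rfl)
    (rapp (allRange (chk CG.TD4.app iv CG.TD4.bs false facts nd rules)) (fun _ _ _ => allRange_append) 18 c394
    c395 rfl rfl) rfl rfl)
    (rapp (allRange (chk CG.TD4.app iv CG.TD4.bs false facts nd rules)) (fun _ _ _ => allRange_append) 48 (rapp (allRange (chk CG.TD4.app iv CG.TD4.bs false facts nd rules)) (fun _ _ _ => allRange_append) 21 c396
    c397 rfl rfl)
    (rapp (allRange (chk CG.TD4.app iv CG.TD4.bs false facts nd rules)) (fun _ _ _ => allRange_append) 27 c398
    (rapp (allRange (chk CG.TD4.app iv CG.TD4.bs false facts nd rules)) (fun _ _ _ => allRange_append) 18 c399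
    c400 rfl rfl) rfl rfl) rfl rfl) rfl rfl)
    (rapp (allRange (chk CG.TD4.app iv CG.TD4.bs false facts nd rules)) (fun _ _ _ => allRange_append) 96 (rapp (allRange (chk CG.TD4.app iv CG.TD4.bs false facts nd rules)) (fun _ _ _ => allRange_append) 39 (rapp (allRange (chk CG.TD4.app iv CG.TD4.bs false facts nd rules)) (fun _ _ _ => allRange_append) 18 c401
    c402 rfl rfl)
    (rapp (allRange (chk CG.TD4.app iv CG.TD4.bs false facts nd rules)) (fun _ _ _ => allRange_append) 21 c403
    c404 rfl rfl) rfl rfl)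
    (rapp (allRange (chk CG.TD4.app iv CG.TD4.bs false facts nd rules)) (fun _ _ _ => allRange_append) 57 (rapp (allRange (chk CG.TD4.app iv CG.TD4.bs false facts nd rules)) (fun _ _ _ => allRange_append) 24 c405
    c406 rfl rfl)
    (rapp (allRange (chk CG.TD4.app iv CG.TD4.bs false facts nd rules)) (fun _ _ _ => allRange_append) 33 c407
    (rapp (allRange (chk CG.TD4.app iv CG.TD4.bs false facts nd rules)) (fun _ _ _ => allRange_append) 21 c408
    c409 rfl rfl) rfl rfl) rfl rfl) rfl rfl) rfl rfl)
    (rapp (allRange (chk CG.TD4.app iv CG.TD4.bs false facts nd rules)) (fun _ _ _ => allRange_append) 188 (rapp (allRange (chk CG.TD4.app iv CG.TD4.bs false facts nd rules)) (fun _ _ _ => allRange_append) 86 (rapp (allRange (chk CG.TD4.app iv CG.TD4.bs false facts nd rules)) (fun _ _ _ => allRange_append) 42 (rapp (allRange (chk CG.TD4.app iv CG.TD4.bs false facts nd rules)) (fun _ _ _ => allRange_append) 21 c410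
    c411 rfl rfl)
    (rapp (allRange (chk CG.TD4.app iv CG.TD4.bs false facts nd rules)) (fun _ _ _ => allRange_append) 21 c412
    c413 rfl rfl) rfl rfl)
    (rapp (allRange (chk CG.TD4.app iv CG.TD4.bs false facts nd rules)) (fun _ _ _ => allRange_append) 44 (rapp (allRange (chk CG.TD4.app iv CG.TD4.bs false facts nd rules)) (fun _ _ _ => allRange_append) 18 c414
    c415 rfl rfl)
    (rapp (allRange (chk CG.TD4.app iv CG.TD4.bs false facts nd rules)) (fun _ _ _ => allRange_append) 26 c416
    (rapp (allRange (chk CG.TD4.app iv CG.TD4.bs false facts nd rules)) (fun _ _ _ => allRange_append) 17 c417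
    c418 rfl rfl) rfl rfl) rfl rfl) rfl rfl)
    (rapp (allRange (chk CG.TD4.app iv CG.TD4.bs false facts nd rules)) (fun _ _ _ => allRange_append) 102 (rapp (allRange (chk CG.TD4.app iv CG.TD4.bs false facts nd rules)) (fun _ _ _ => allRange_append) 44 (rapp (allRange (chk CG.TD4.app iv CG.TD4.bs false facts nd rules)) (fun _ _ _ => allRange_append) 21 c419
    c420 rfl rfl)
    (rapp (allRange (chk CG.TD4.app iv CG.TD4.bs false facts nd rules)) (fun _ _ _ => allRange_append) 23 c421
    c422 rfl rfl) rfl rfl)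
    (rapp (allRange (chk CG.TD4.app iv CG.TD4.bs false facts nd rules)) (fun _ _ _ => allRange_append) 58 (rapp (allRange (chk CG.TD4.app iv CG.TD4.bs false facts nd rules)) (fun _ _ _ => allRange_append) 23 c423
    c424 rfl rfl)
    (rapp (allRange (chk CG.TD4.app iv CG.TD4.bs false facts nd rules)) (fun _ _ _ => allRange_append) 35 c425
    (rapp (allRange (chk CG.TD4.app iv CG.TD4.bs false facts nd rules)) (fun _ _ _ => allRange_append) 23 c426
    c427 rfl rfl) rfl rfl) rfl rfl) rfl rfl) rfl rfl) rfl rfl) rfl rfl) rfl rfl)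
    (rapp (allRange (chk CG.TD4.app iv CG.TD4.bs false facts nd rules)) (fun _ _ _ => allRange_append) 1335 (rapp (allRange (chk CG.TD4.app iv CG.TD4.bs false facts nd rules)) (fun _ _ _ => allRange_append) 689 (rapp (allRange (chk CG.TD4.app iv CG.TD4.bs false facts nd rules)) (fun _ _ _ => allRange_append) 371 (rapp (allRange (chk CG.TD4.app iv CG.TD4.bs false facts nd rules)) (fun _ _ _ => allRange_append) 180 (rapp (allRange (chk CG.TD4.app iv CG.TD4.bs false facts nd rules)) (fun _ _ _ => allRange_append) 88 (rapp (allRange (chk CG.TD4.app iv CG.TD4.bs false facts nd rules)) (fun _ _ _ => allRange_append) 41 (rapp (allRange (chk CG.TD4.app iv CG.TD4.bs false facts nd rules)) (fun _ _ _ => allRange_append) 21 c428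
    c429 rfl rfl)
    (rapp (allRange (chk CG.TD4.app iv CG.TD4.bs false facts nd rules)) (fun _ _ _ => allRange_append) 20 c430
    c431 rfl rfl) rfl rfl)
    (rapp (allRange (chk CG.TD4.app iv CG.TD4.bs false facts nd rules)) (fun _ _ _ => allRange_append) 47 (rapp (allRange (chk CG.TD4.app iv CG.TD4.bs false facts nd rules)) (fun _ _ _ => allRange_append) 23 c432
    c433 rfl rfl)
    (rapp (allRange (chk CG.TD4.app iv CG.TD4.bs false facts nd rules)) (fun _ _ _ => allRange_append) 24 c434
    c435 rfl rfl) rfl rfl) rfl rfl)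
    (rapp (allRange (chk CG.TD4.app iv CG.TD4.bs false facts nd rules)) (fun _ _ _ => allRange_append) 92 (rapp (allRange (chk CG.TD4.app iv CG.TD4.bs false facts nd rules)) (fun _ _ _ => allRange_append) 43 (rapp (allRange (chk CG.TD4.app iv CG.TD4.bs false facts nd rules)) (fun _ _ _ => allRange_append) 23 c436
    c437 rfl rfl)
    (rapp (allRange (chk CG.TD4.app iv CG.TD4.bs false facts nd rules)) (fun _ _ _ => allRange_append) 20 c438
    c439 rfl rfl) rfl rfl)
    (rapp (allRange (chk CG.TD4.app iv CG.TD4.bs false facts nd rules)) (fun _ _ _ => allRange_append) 49 (rapp (allRange (chk CG.TD4.app iv CG.TD4.bs false facts nd rules)) (fun _ _ _ => allRange_append) 17 c440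
    c441 rfl rfl)
    (rapp (allRange (chk CG.TD4.app iv CG.TD4.bs false facts nd rules)) (fun _ _ _ => allRange_append) 32 c442
    (rapp (allRange (chk CG.TD4.app iv CG.TD4.bs false facts nd rules)) (fun _ _ _ => allRange_append) 22 c443
    c444 rfl rfl) rfl rfl) rfl rfl) rfl rfl) rfl rfl)
    (rapp (allRange (chk CG.TD4.app iv CG.TD4.bs false facts nd rules)) (fun _ _ _ => allRange_append) 191 (rapp (allRange (chk CG.TD4.app iv CG.TD4.bs false facts nd rules)) (fun _ _ _ => allRange_append) 94 (rapp (allRange (chk CG.TD4.app iv CG.TD4.bs false facts nd rules)) (fun _ _ _ => allRange_append) 41 (rapp (allRange (chk CG.TD4.app iv CG.TD4.bs false facts nd rules)) (fun _ _ _ => allRange_append) 21 c445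
    c446 rfl rfl)
    (rapp (allRange (chk CG.TD4.app iv CG.TD4.bs false facts nd rules)) (fun _ _ _ => allRange_append) 20 c447
    c448 rfl rfl) rfl rfl)
    (rapp (allRange (chk CG.TD4.app iv CG.TD4.bs false facts nd rules)) (fun _ _ _ => allRange_append) 53 (rapp (allRange (chk CG.TD4.app iv CG.TD4.bs false facts nd rules)) (fun _ _ _ => allRange_append) 20 c449
    c450 rfl rfl)
    (rapp (allRange (chk CG.TD4.app iv CG.TD4.bs false facts nd rules)) (fun _ _ _ => allRange_append) 33 c451
    (rapp (allRange (chk CG.TD4.app iv CG.TD4.bs false facts nd rules)) (fun _ _ _ => allRange_append) 22 c452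
    c453 rfl rfl) rfl rfl) rfl rfl) rfl rfl)
    (rapp (allRange (chk CG.TD4.app iv CG.TD4.bs false facts nd rules)) (fun _ _ _ => allRange_append) 97 (rapp (allRange (chk CG.TD4.app iv CG.TD4.bs false facts nd rules)) (fun _ _ _ => allRange_append) 40 (rapp (allRange (chk CG.TD4.app iv CG.TD4.bs false facts nd rules)) (fun _ _ _ => allRange_append) 23 c454
    c455 rfl rfl)
    (rapp (allRange (chk CG.TD4.app iv CG.TD4.bs false facts nd rules)) (fun _ _ _ => allRange_append) 17 c456
    c457 rfl rfl) rfl rfl)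
    (rapp (allRange (chk CG.TD4.app iv CG.TD4.bs false facts nd rules)) (fun _ _ _ => allRange_append) 57 (rapp (allRange (chk CG.TD4.app iv CG.TD4.bs false facts nd rules)) (fun _ _ _ => allRange_append) 24 c458
    c459 rfl rfl)
    (rapp (allRange (chk CG.TD4.app iv CG.TD4.bs false facts nd rules)) (fun _ _ _ => allRange_append) 33 c460
    (rapp (allRange (chk CG.TD4.app iv CG.TD4.bs false facts nd rules)) (fun _ _ _ => allRange_append) 22 c461
    c462 rfl rfl) rfl rfl) rfl rfl) rfl rfl) rfl rfl) rfl rfl)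
    (rapp (allRange (chk CG.TD4.app iv CG.TD4.bs false facts nd rules)) (fun _ _ _ => allRange_append) 318 (rapp (allRange (chk CG.TD4.app iv CG.TD4.bs false facts nd rules)) (fun _ _ _ => allRange_append) 155 (rapp (allRange (chk CG.TD4.app iv CG.TD4.bs false facts nd rules)) (fun _ _ _ => allRange_append) 84 (rapp (allRange (chk CG.TD4.app iv CG.TD4.bs false facts nd rules)) (fun _ _ _ => allRange_append) 37 (rapp (allRange (chk CG.TD4.app iv CG.TD4.bs false facts nd rules)) (fun _ _ _ => allRange_append) 22 c463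
    c464 rfl rfl)
    (rapp (allRange (chk CG.TD4.app iv CG.TD4.bs false facts nd rules)) (fun _ _ _ => allRange_append) 15 c465
    c466 rfl rfl) rfl rfl)
    (rapp (allRange (chk CG.TD4.app iv CG.TD4.bs false facts nd rules)) (fun _ _ _ => allRange_append) 47 (rapp (allRange (chk CG.TD4.app iv CG.TD4.bs false facts nd rules)) (fun _ _ _ => allRange_append) 18 c467
    c468 rfl rfl)
    (rapp (allRange (chk CG.TD4.app iv CG.TD4.bs false facts nd rules)) (fun _ _ _ => allRange_append) 29 c469
    (rapp (allRange (chk CG.TD4.app iv CG.TD4.bs false facts nd rules)) (fun _ _ _ => allRange_append) 19 c470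
    c471 rfl rfl) rfl rfl) rfl rfl) rfl rfl)
    (rapp (allRange (chk CG.TD4.app iv CG.TD4.bs false facts nd rules)) (fun _ _ _ => allRange_append) 71 (rapp (allRange (chk CG.TD4.app iv CG.TD4.bs false facts nd rules)) (fun _ _ _ => allRange_append) 31 (rapp (allRange (chk CG.TD4.app iv CG.TD4.bs false facts nd rules)) (fun _ _ _ => allRange_append) 16 c472
    c473 rfl rfl)
    (rapp (allRange (chk CG.TD4.app iv CG.TD4.bs false facts nd rules)) (fun _ _ _ => allRange_append) 15 c474
    c475 rfl rfl) rfl rfl)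
    (rapp (allRange (chk CG.TD4.app iv CG.TD4.bs false facts nd rules)) (fun _ _ _ => allRange_append) 40 (rapp (allRange (chk CG.TD4.app iv CG.TD4.bs false facts nd rules)) (fun _ _ _ => allRange_append) 21 c476
    c477 rfl rfl)
    (rapp (allRange (chk CG.TD4.app iv CG.TD4.bs false facts nd rules)) (fun _ _ _ => allRange_append) 19 c478
    (rapp (allRange (chk CG.TD4.app iv CG.TD4.bs false facts nd rules)) (fun _ _ _ => allRange_append) 10 c479
    c480 rfl rfl) rfl rfl) rfl rfl) rfl rfl) rfl rfl)
    (rapp (allRange (chk CG.TD4.app iv CG.TD4.bs false facts nd rules)) (fun _ _ _ => allRange_append) 163 (rapp (allRange (chk CG.TD4.app iv CG.TD4.bs false facts nd rules)) (fun _ _ _ => allRange_append) 80 (rapp (allRange (chk CG.TD4.app iv CG.TD4.bs false facts nd rules)) (fun _ _ _ => allRange_append) 35 (rapp (allRange (chk CG.TD4.app iv CG.TD4.bs false facts nd rules)) (fun _ _ _ => allRange_append) 20 c481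
    c482 rfl rfl)
    (rapp (allRange (chk CG.TD4.app iv CG.TD4.bs false facts nd rules)) (fun _ _ _ => allRange_append) 15 c483
    c484 rfl rfl) rfl rfl)
    (rapp (allRange (chk CG.TD4.app iv CG.TD4.bs false facts nd rules)) (fun _ _ _ => allRange_append) 45 (rapp (allRange (chk CG.TD4.app iv CG.TD4.bs false facts nd rules)) (fun _ _ _ => allRange_append) 16 c485
    c486 rfl rfl)
    (rapp (allRange (chk CG.TD4.app iv CG.TD4.bs false facts nd rules)) (fun _ _ _ => allRange_append) 29 c487
    (rapp (allRange (chk CG.TD4.app iv CG.TD4.bs false facts nd rules)) (fun _ _ _ => allRange_append) 23 c488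
    c489 rfl rfl) rfl rfl) rfl rfl) rfl rfl)
    (rapp (allRange (chk CG.TD4.app iv CG.TD4.bs false facts nd rules)) (fun _ _ _ => allRange_append) 83 (rapp (allRange (chk CG.TD4.app iv CG.TD4.bs false facts nd rules)) (fun _ _ _ => allRange_append) 41 (rapp (allRange (chk CG.TD4.app iv CG.TD4.bs false facts nd rules)) (fun _ _ _ => allRange_append) 23 c490
    c491 rfl rfl)
    (rapp (allRange (chk CG.TD4.app iv CG.TD4.bs false facts nd rules)) (fun _ _ _ => allRange_append) 18 c492
    c493 rfl rfl) rfl rfl)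
    (rapp (allRange (chk CG.TD4.app iv CG.TD4.bs false facts nd rules)) (fun _ _ _ => allRange_append) 42 (rapp (allRange (chk CG.TD4.app iv CG.TD4.bs false facts nd rules)) (fun _ _ _ => allRange_append) 20 c494
    c495 rfl rfl)
    (rapp (allRange (chk CG.TD4.app iv CG.TD4.bs false facts nd rules)) (fun _ _ _ => allRange_append) 22 c496
    (rapp (allRange (chk CG.TD4.app iv CG.TD4.bs false facts nd rules)) (fun _ _ _ => allRange_append) 14 c497
    c498 rfl rfl) rfl rfl) rfl rfl) rfl rfl) rfl rfl) rfl rfl) rfl rfl)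
    (rapp (allRange (chk CG.TD4.app iv CG.TD4.bs false facts nd rules)) (fun _ _ _ => allRange_append) 646 (rapp (allRange (chk CG.TD4.app iv CG.TD4.bs false facts nd rules)) (fun _ _ _ => allRange_append) 318 (rapp (allRange (chk CG.TD4.app iv CG.TD4.bs false facts nd rules)) (fun _ _ _ => allRange_append) 163 (rapp (allRange (chk CG.TD4.app iv CG.TD4.bs false facts nd rules)) (fun _ _ _ => allRange_append) 79 (rapp (allRange (chk CG.TD4.app iv CG.TD4.bs false facts nd rules)) (fun _ _ _ => allRange_append) 35 (rapp (allRange (chk CG.TD4.app iv CG.TD4.bs false facts nd rules)) (fun _ _ _ => allRange_append) 15 c499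
    c500 rfl rfl)
    (rapp (allRange (chk CG.TD4.app iv CG.TD4.bs false facts nd rules)) (fun _ _ _ => allRange_append) 20 c501
    c502 rfl rfl) rfl rfl)
    (rapp (allRange (chk CG.TD4.app iv CG.TD4.bs false facts nd rules)) (fun _ _ _ => allRange_append) 44 (rapp (allRange (chk CG.TD4.app iv CG.TD4.bs false facts nd rules)) (fun _ _ _ => allRange_append) 23 c503
    c504 rfl rfl)
    (rapp (allRange (chk CG.TD4.app iv CG.TD4.bs false facts nd rules)) (fun _ _ _ => allRange_append) 21 c505
    c506 rfl rfl) rfl rfl) rfl rfl)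
    (rapp (allRange (chk CG.TD4.app iv CG.TD4.bs false facts nd rules)) (fun _ _ _ => allRange_append) 84 (rapp (allRange (chk CG.TD4.app iv CG.TD4.bs false facts nd rules)) (fun _ _ _ => allRange_append) 36 (rapp (allRange (chk CG.TD4.app iv CG.TD4.bs false facts nd rules)) (fun _ _ _ => allRange_append) 21 c507
    c508 rfl rfl)
    (rapp (allRange (chk CG.TD4.app iv CG.TD4.bs false facts nd rules)) (fun _ _ _ => allRange_append) 15 c509
    c510 rfl rfl) rfl rfl)
    (rapp (allRange (chk CG.TD4.app iv CG.TD4.bs false facts nd rules)) (fun _ _ _ => allRange_append) 48 (rapp (allRange (chk CG.TD4.app iv CG.TD4.bs false facts nd rules)) (fun _ _ _ => allRange_append) 18 c511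
    c512 rfl rfl)
    (rapp (allRange (chk CG.TD4.app iv CG.TD4.bs false facts nd rules)) (fun _ _ _ => allRange_append) 30 c513
    (rapp (allRange (chk CG.TD4.app iv CG.TD4.bs false facts nd rules)) (fun _ _ _ => allRange_append) 21 c514
    c515 rfl rfl) rfl rfl) rfl rfl) rfl rfl) rfl rfl)
    (rapp (allRange (chk CG.TD4.app iv CG.TD4.bs false facts nd rules)) (fun _ _ _ => allRange_append) 155 (rapp (allRange (chk CG.TD4.app iv CG.TD4.bs false facts nd rules)) (fun _ _ _ => allRange_append) 80 (rapp (allRange (chk CG.TD4.app iv CG.TD4.bs false facts nd rules)) (fun _ _ _ => allRange_append) 38 (rapp (allRange (chk CG.TD4.app iv CG.TD4.bs false facts nd rules)) (fun _ _ _ => allRange_append) 20 c516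
    c517 rfl rfl)
    (rapp (allRange (chk CG.TD4.app iv CG.TD4.bs false facts nd rules)) (fun _ _ _ => allRange_append) 18 c518
    c519 rfl rfl) rfl rfl)
    (rapp (allRange (chk CG.TD4.app iv CG.TD4.bs false facts nd rules)) (fun _ _ _ => allRange_append) 42 (rapp (allRange (chk CG.TD4.app iv CG.TD4.bs false facts nd rules)) (fun _ _ _ => allRange_append) 15 c520
    c521 rfl rfl)
    (rapp (allRange (chk CG.TD4.app iv CG.TD4.bs false facts nd rules)) (fun _ _ _ => allRange_append) 27 c522
    (rapp (allRange (chk CG.TD4.app iv CG.TD4.bs false facts nd rules)) (fun _ _ _ => allRange_append) 18 c523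
    c524 rfl rfl) rfl rfl) rfl rfl) rfl rfl)
    (rapp (allRange (chk CG.TD4.app iv CG.TD4.bs false facts nd rules)) (fun _ _ _ => allRange_append) 75 (rapp (allRange (chk CG.TD4.app iv CG.TD4.bs false facts nd rules)) (fun _ _ _ => allRange_append) 33 (rapp (allRange (chk CG.TD4.app iv CG.TD4.bs false facts nd rules)) (fun _ _ _ => allRange_append) 16 c525
    c526 rfl rfl)
    (rapp (allRange (chk CG.TD4.app iv CG.TD4.bs false facts nd rules)) (fun _ _ _ => allRange_append) 17 c527
    c528 rfl rfl) rfl rfl)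
    (rapp (allRange (chk CG.TD4.app iv CG.TD4.bs false facts nd rules)) (fun _ _ _ => allRange_append) 42 (rapp (allRange (chk CG.TD4.app iv CG.TD4.bs false facts nd rules)) (fun _ _ _ => allRange_append) 18 c529
    c530 rfl rfl)
    (rapp (allRange (chk CG.TD4.app iv CG.TD4.bs false facts nd rules)) (fun _ _ _ => allRange_append) 24 c531
    (rapp (allRange (chk CG.TD4.app iv CG.TD4.bs false facts nd rules)) (fun _ _ _ => allRange_append) 15 c532
    c533 rfl rfl) rfl rfl) rfl rfl) rfl rfl) rfl rfl) rfl rfl)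
    (rapp (allRange (chk CG.TD4.app iv CG.TD4.bs false facts nd rules)) (fun _ _ _ => allRange_append) 328 (rapp (allRange (chk CG.TD4.app iv CG.TD4.bs false facts nd rules)) (fun _ _ _ => allRange_append) 173 (rapp (allRange (chk CG.TD4.app iv CG.TD4.bs false facts nd rules)) (fun _ _ _ => allRange_append) 86 (rapp (allRange (chk CG.TD4.app iv CG.TD4.bs false facts nd rules)) (fun _ _ _ => allRange_append) 34 (rapp (allRange (chk CG.TD4.app iv CG.TD4.bs false facts nd rules)) (fun _ _ _ => allRange_append) 17 c534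
    c535 rfl rfl)
    (rapp (allRange (chk CG.TD4.app iv CG.TD4.bs false facts nd rules)) (fun _ _ _ => allRange_append) 17 c536
    c537 rfl rfl) rfl rfl)
    (rapp (allRange (chk CG.TD4.app iv CG.TD4.bs false facts nd rules)) (fun _ _ _ => allRange_append) 52 (rapp (allRange (chk CG.TD4.app iv CG.TD4.bs false facts nd rules)) (fun _ _ _ => allRange_append) 21 c538
    c539 rfl rfl)
    (rapp (allRange (chk CG.TD4.app iv CG.TD4.bs false facts nd rules)) (fun _ _ _ => allRange_append) 31 c540
    (rapp (allRange (chk CG.TD4.app iv CG.TD4.bs false facts nd rules)) (fun _ _ _ => allRange_append) 21 c541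
    c542 rfl rfl) rfl rfl) rfl rfl) rfl rfl)
    (rapp (allRange (chk CG.TD4.app iv CG.TD4.bs false facts nd rules)) (fun _ _ _ => allRange_append) 87 (rapp (allRange (chk CG.TD4.app iv CG.TD4.bs false facts nd rules)) (fun _ _ _ => allRange_append) 42 (rapp (allRange (chk CG.TD4.app iv CG.TD4.bs false facts nd rules)) (fun _ _ _ => allRange_append) 18 c543
    c544 rfl rfl)
    (rapp (allRange (chk CG.TD4.app iv CG.TD4.bs false facts nd rules)) (fun _ _ _ => allRange_append) 24 c545
    c546 rfl rfl) rfl rfl)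
    (rapp (allRange (chk CG.TD4.app iv CG.TD4.bs false facts nd rules)) (fun _ _ _ => allRange_append) 45 (rapp (allRange (chk CG.TD4.app iv CG.TD4.bs false facts nd rules)) (fun _ _ _ => allRange_append) 18 c547
    c548 rfl rfl)
    (rapp (allRange (chk CG.TD4.app iv CG.TD4.bs false facts nd rules)) (fun _ _ _ => allRange_append) 27 c549
    (rapp (allRange (chk CG.TD4.app iv CG.TD4.bs false facts nd rules)) (fun _ _ _ => allRange_append) 21 c550
    c551 rfl rfl) rfl rfl) rfl rfl) rfl rfl) rfl rfl)
    (rapp (allRange (chk CG.TD4.app iv CG.TD4.bs false facts nd rules)) (fun _ _ _ => allRange_append) 155 (rapp (allRange (chk CG.TD4.app iv CG.TD4.bs false facts nd rules)) (fun _ _ _ => allRange_append) 79 (rapp (allRange (chk CG.TD4.app iv CG.TD4.bs false facts nd rules)) (fun _ _ _ => allRange_append) 39 (rapp (allRange (chk CG.TD4.app iv CG.TD4.bs false facts nd rules)) (fun _ _ _ => allRange_append) 18 c552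
    c553 rfl rfl)
    (rapp (allRange (chk CG.TD4.app iv CG.TD4.bs false facts nd rules)) (fun _ _ _ => allRange_append) 21 c554
    c555 rfl rfl) rfl rfl)
    (rapp (allRange (chk CG.TD4.app iv CG.TD4.bs false facts nd rules)) (fun _ _ _ => allRange_append) 40 (rapp (allRange (chk CG.TD4.app iv CG.TD4.bs false facts nd rules)) (fun _ _ _ => allRange_append) 14 c556
    c557 rfl rfl)
    (rapp (allRange (chk CG.TD4.app iv CG.TD4.bs false facts nd rules)) (fun _ _ _ => allRange_append) 26 c558
    (rapp (allRange (chk CG.TD4.app iv CG.TD4.bs false facts nd rules)) (fun _ _ _ => allRange_append) 17 c559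
    c560 rfl rfl) rfl rfl) rfl rfl) rfl rfl)
    (rapp (allRange (chk CG.TD4.app iv CG.TD4.bs false facts nd rules)) (fun _ _ _ => allRange_append) 76 (rapp (allRange (chk CG.TD4.app iv CG.TD4.bs false facts nd rules)) (fun _ _ _ => allRange_append) 31 (rapp (allRange (chk CG.TD4.app iv CG.TD4.bs false facts nd rules)) (fun _ _ _ => allRange_append) 19 c561
    c562 rfl rfl)
    (rapp (allRange (chk CG.TD4.app iv CG.TD4.bs false facts nd rules)) (fun _ _ _ => allRange_append) 12 c563
    c564 rfl rfl) rfl rfl)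
    (rapp (allRange (chk CG.TD4.app iv CG.TD4.bs false facts nd rules)) (fun _ _ _ => allRange_append) 45 (rapp (allRange (chk CG.TD4.app iv CG.TD4.bs false facts nd rules)) (fun _ _ _ => allRange_append) 16 c565
    c566 rfl rfl)
    (rapp (allRange (chk CG.TD4.app iv CG.TD4.bs false facts nd rules)) (fun _ _ _ => allRange_append) 29 c567
    (rapp (allRange (chk CG.TD4.app iv CG.TD4.bs false facts nd rules)) (fun _ _ _ => allRange_append) 23 c568
    c569 rfl rfl) rfl rfl) rfl rfl) rfl rfl) rfl rfl) rfl rfl) rfl rfl) rfl rfl) rfl rfl) rfl rfl)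

theorem sem (hz : ∀ i, z i ∈ Subgroup.center Γ) (hrel : ∀ r ∈ rels, ev (tokv CG.TD4.act.gen f τ) r.1 = zv z r.2)
    (hL : ∀ g, f g ∈ L) (hl : ∀ r ∈ lrels, ev (tokv CG.TD4.act.gen f τ) r ∈ L) :
    ∀ j, j < 6060 → Sem CG.TD4.act false facts nd rules f τ z L (facts.get j) :=
  sound (env_of_chk (lrels := lrels) (idx := idx) CG.TD4.base hiv hz (rels01 hrel) (fun _ => hL) (fun _ => hl) c2 c3) all

theorem for0 : allRange (forChk CG.TD4.app iv facts 6060 0 1 0 20 fin fo0) 0 17199 = true :=
  (rapp (allRange (forChk CG.TD4.app iv facts 6060 0 1 0 20 fin fo0)) (fun _ _ _ => allRange_append) 17199 c572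
    c573 rfl rfl)

theorem for1 : allRange (forChk CG.TD4.app iv facts 6060 1 1 0 20 fin fo1) 0 17199 = true :=
  (rapp (allRange (forChk CG.TD4.app iv facts 6060 1 1 0 20 fin fo1)) (fun _ _ _ => allRange_append) 17199 c574
    (rapp (allRange (forChk CG.TD4.app iv facts 6060 1 1 0 20 fin fo1)) (fun _ _ _ => allRange_append) 9179 c575
    c576 rfl rfl) rfl rfl)

theorem for2 : allRange (forChk CG.TD4.app iv facts 6060 2 1 0 20 fin fo2) 0 17199 = true :=
  (rapp (allRange (forChk CG.TD4.app iv facts 6060 2 1 0 20 fin fo2)) (fun _ _ _ => allRange_append) 17199 c577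
    (rapp (allRange (forChk CG.TD4.app iv facts 6060 2 1 0 20 fin fo2)) (fun _ _ _ => allRange_append) 11217 c578
    c579 rfl rfl) rfl rfl)

theorem for3 : allRange (forChk CG.TD4.app iv facts 6060 3 1 0 20 fin fo3) 0 17199 = true :=
  (rapp (allRange (forChk CG.TD4.app iv facts 6060 3 1 0 20 fin fo3)) (fun _ _ _ => allRange_append) 17199 (rapp (allRange (forChk CG.TD4.app iv facts 6060 3 1 0 20 fin fo3)) (fun _ _ _ => allRange_append) 11047 c580
    c581 rfl rfl)
    (rapp (allRange (forChk CG.TD4.app iv facts 6060 3 1 0 20 fin fo3)) (fun _ _ _ => allRange_append) 6152 c582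
    c583 rfl rfl) rfl rfl)

theorem for4 : allRange (forChk CG.TD4.app iv facts 6060 4 1 0 20 fin fo4) 0 17199 = true :=
  (rapp (allRange (forChk CG.TD4.app iv facts 6060 4 1 0 20 fin fo4)) (fun _ _ _ => allRange_append) 17199 (rapp (allRange (forChk CG.TD4.app iv facts 6060 4 1 0 20 fin fo4)) (fun _ _ _ => allRange_append) 11400 c584
    c585 rfl rfl)
    (rapp (allRange (forChk CG.TD4.app iv facts 6060 4 1 0 20 fin fo4)) (fun _ _ _ => allRange_append) 5799 c586
    c587 rfl rfl) rfl rfl)

theorem for5 : allRange (forChk CG.TD4.app iv facts 6060 5 1 0 20 fin fo5) 0 17199 = true :=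
  (rapp (allRange (forChk CG.TD4.app iv facts 6060 5 1 0 20 fin fo5)) (fun _ _ _ => allRange_append) 17199 c588
    (rapp (allRange (forChk CG.TD4.app iv facts 6060 5 1 0 20 fin fo5)) (fun _ _ _ => allRange_append) 11054 c589
    c590 rfl rfl) rfl rfl)

theorem for6 : allRange (forChk CG.TD4.app iv facts 6060 6 1 0 20 fin fo6) 0 17199 = true :=
  (rapp (allRange (forChk CG.TD4.app iv facts 6060 6 1 0 20 fin fo6)) (fun _ _ _ => allRange_append) 17199 c591
    (rapp (allRange (forChk CG.TD4.app iv facts 6060 6 1 0 20 fin fo6)) (fun _ _ _ => allRange_append) 11359 c592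
    c593 rfl rfl) rfl rfl)

theorem for7 : allRange (forChk CG.TD4.app iv facts 6060 7 1 0 20 fin fo7) 0 17199 = true :=
  (rapp (allRange (forChk CG.TD4.app iv facts 6060 7 1 0 20 fin fo7)) (fun _ _ _ => allRange_append) 17199 c594
    (rapp (allRange (forChk CG.TD4.app iv facts 6060 7 1 0 20 fin fo7)) (fun _ _ _ => allRange_append) 10726 c595
    c596 rfl rfl) rfl rfl)

theorem for8 : allRange (forChk CG.TD4.app iv facts 6060 8 1 0 20 fin fo8) 0 17199 = true :=
  (rapp (allRange (forChk CG.TD4.app iv facts 6060 8 1 0 20 fin fo8)) (fun _ _ _ => allRange_append) 17199 (rapp (allRange (forChk CG.TD4.app iv facts 6060 8 1 0 20 fin fo8)) (fun _ _ _ => allRange_append) 10592 c597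
    c598 rfl rfl)
    (rapp (allRange (forChk CG.TD4.app iv facts 6060 8 1 0 20 fin fo8)) (fun _ _ _ => allRange_append) 6607 c599
    c600 rfl rfl) rfl rfl)

theorem for9 : allRange (forChk CG.TD4.app iv facts 6060 9 1 0 20 fin fo9) 0 17199 = true :=
  (rapp (allRange (forChk CG.TD4.app iv facts 6060 9 1 0 20 fin fo9)) (fun _ _ _ => allRange_append) 17199 (rapp (allRange (forChk CG.TD4.app iv facts 6060 9 1 0 20 fin fo9)) (fun _ _ _ => allRange_append) 10680 c601
    c602 rfl rfl)
    (rapp (allRange (forChk CG.TD4.app iv facts 6060 9 1 0 20 fin fo9)) (fun _ _ _ => allRange_append) 6519 c603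
    c604 rfl rfl) rfl rfl)

theorem for10 : allRange (forChk CG.TD4.app iv facts 6060 10 1 0 20 fin fo10) 0 17199 = true :=
  (rapp (allRange (forChk CG.TD4.app iv facts 6060 10 1 0 20 fin fo10)) (fun _ _ _ => allRange_append) 17199 (rapp (allRange (forChk CG.TD4.app iv facts 6060 10 1 0 20 fin fo10)) (fun _ _ _ => allRange_append) 9851 c605
    c606 rfl rfl)
    (rapp (allRange (forChk CG.TD4.app iv facts 6060 10 1 0 20 fin fo10)) (fun _ _ _ => allRange_append) 7348 c607
    c608 rfl rfl) rfl rfl)

theorem finite [Finite L] (hM : ∀ i, z i ∈ L) (hz : ∀ i, z i ∈ Subgroup.center Γ) (hrel : ∀ r ∈ rels, ev (tokv CG.TD4.act.gen f τ) r.1 = zv z r.2)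
    (hL : ∀ g, f g ∈ L) (hl : ∀ r ∈ lrels, ev (tokv CG.TD4.act.gen f τ) r ∈ L) :
    Finite (Subgroup.closure (Set.range f ∪ {τ 0})) := by
  have S := sem hz hrel hL hl
  have k := fun {e : ℕ} {tb : ℕ → ℕ} => forest_sound S hM_I hM hiv CG.TD4.tabOK.w_pos (fun _ => Iff.rfl) (act_surj CG.TD4.tabOK)
    (e := e) (eps := 1) (x0 := 0) ⟨0, by decide, rfl⟩
    (fun _ hg => stab_passes S hz hM CG.TD4.chain CG.TD4.card_le c570 c571 hg) (fin := fin) (tb := tb)
  exact finite_of_cover (t := tau τ 1) (M := L) (fin := fin) (by decide) (all_cons (k for0) (all_cons (k for1) (all_cons (k for2) (all_cons (k for3) (all_cons (k for4) (all_cons (k for5) (all_cons (k for6) (all_cons (k for7) (all_cons (k for8) (all_cons (k for9) (all_cons (k for10) all_nil)))))))))))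


end Cfsg.Agent.DC.Thb
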