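import Cfsg.Agent.Lib.DC.Thb.D0
import Cfsg.Agent.Lib.Grp.TD4.Defs

set_option autoImplicit false
set_option maxRecDepth 100000
set_option Elab.async false
set_option linter.unusedSectionVars false

namespace Cfsg.Agent.DC.Thb
open Cfsg.Agent.CG

noncomputable def facts : Tr Fact := (.node (.node (.node (.node (.node facts_0 facts_16) (.node facts_8 facts_24)) (.node (.node facts_4 facts_20) (.node facts_12 facts_28))) (.node (.node (.node facts_2 facts_18) (.node facts_10 facts_26)) (.node (.node facts_6 facts_22) (.node facts_14 facts_30)))) (.node (.node (.node (.node facts_1 facts_17) (.node facts_9 facts_25)) (.node (.node facts_5 facts_21) (.node facts_13 facts_29))) (.node (.node (.node facts_3 facts_19) (.node facts_11 facts_27)) (.node (.node facts_7 facts_23) (.node facts_15 facts_31)))))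
noncomputable def fo0T : Tr ℕ := (.node (.node (.node (.node (.leaf fo0T_0) (.leaf fo0T_8)) (.leaf fo0T_4)) (.node (.leaf fo0T_2) (.leaf fo0T_6))) (.node (.node (.leaf fo0T_1) (.leaf fo0T_5)) (.node (.leaf fo0T_3) (.leaf fo0T_7))))
noncomputable def fo1T : Tr ℕ := (.node (.node (.node (.node (.leaf fo1T_0) (.leaf fo1T_8)) (.leaf fo1T_4)) (.node (.leaf fo1T_2) (.leaf fo1T_6))) (.node (.node (.leaf fo1T_1) (.leaf fo1T_5)) (.node (.leaf fo1T_3) (.leaf fo1T_7))))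
noncomputable def fo2T : Tr ℕ := (.node (.node (.node (.node (.leaf fo2T_0) (.leaf fo2T_8)) (.leaf fo2T_4)) (.node (.leaf fo2T_2) (.leaf fo2T_6))) (.node (.node (.leaf fo2T_1) (.leaf fo2T_5)) (.node (.leaf fo2T_3) (.leaf fo2T_7))))
noncomputable def fo3T : Tr ℕ := (.node (.node (.node (.node (.leaf fo3T_0) (.leaf fo3T_8)) (.leaf fo3T_4)) (.node (.leaf fo3T_2) (.leaf fo3T_6))) (.node (.node (.leaf fo3T_1) (.leaf fo3T_5)) (.node (.leaf fo3T_3) (.leaf fo3T_7))))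
noncomputable def fo4T : Tr ℕ := (.node (.node (.node (.node (.leaf fo4T_0) (.leaf fo4T_8)) (.leaf fo4T_4)) (.node (.leaf fo4T_2) (.leaf fo4T_6))) (.node (.node (.leaf fo4T_1) (.leaf fo4T_5)) (.node (.leaf fo4T_3) (.leaf fo4T_7))))
noncomputable def fo5T : Tr ℕ := (.node (.node (.node (.node (.leaf fo5T_0) (.leaf fo5T_8)) (.leaf fo5T_4)) (.node (.leaf fo5T_2) (.leaf fo5T_6))) (.node (.node (.leaf fo5T_1) (.leaf fo5T_5)) (.node (.leaf fo5T_3) (.leaf fo5T_7))))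
noncomputable def fo6T : Tr ℕ := (.node (.node (.node (.node (.leaf fo6T_0) (.leaf fo6T_8)) (.leaf fo6T_4)) (.node (.leaf fo6T_2) (.leaf fo6T_6))) (.node (.node (.leaf fo6T_1) (.leaf fo6T_5)) (.node (.leaf fo6T_3) (.leaf fo6T_7))))
noncomputable def fo7T : Tr ℕ := (.node (.node (.node (.node (.leaf fo7T_0) (.leaf fo7T_8)) (.leaf fo7T_4)) (.node (.leaf fo7T_2) (.leaf fo7T_6))) (.node (.node (.leaf fo7T_1) (.leaf fo7T_5)) (.node (.leaf fo7T_3) (.leaf fo7T_7))))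
noncomputable def fo8T : Tr ℕ := (.node (.node (.node (.node (.leaf fo8T_0) (.leaf fo8T_8)) (.leaf fo8T_4)) (.node (.leaf fo8T_2) (.leaf fo8T_6))) (.node (.node (.leaf fo8T_1) (.leaf fo8T_5)) (.node (.leaf fo8T_3) (.leaf fo8T_7))))
noncomputable def fo9T : Tr ℕ := (.node (.node (.node (.node (.leaf fo9T_0) (.leaf fo9T_8)) (.leaf fo9T_4)) (.node (.leaf fo9T_2) (.leaf fo9T_6))) (.node (.node (.leaf fo9T_1) (.leaf fo9T_5)) (.node (.leaf fo9T_3) (.leaf fo9T_7))))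
noncomputable def fo10T : Tr ℕ := (.node (.node (.node (.node (.leaf fo10T_0) (.leaf fo10T_8)) (.leaf fo10T_4)) (.node (.leaf fo10T_2) (.leaf fo10T_6))) (.node (.node (.leaf fo10T_1) (.leaf fo10T_5)) (.node (.leaf fo10T_3) (.leaf fo10T_7))))
noncomputable def nd : ℕ → ℕ := (fun i => look 0xffffff ndT (Nat.mul 24 i))
noncomputable def ivT : ℕ := nat_lit 0x3050207040906080b0d0a0f0c110e13101512171419161b181a1d1c1f1e
noncomputable abbrev iv : ℕ → ℕ := ivX ivT 30
noncomputable def rels : List (List ℕ × List ℤ) := [([256,256,2,0], []),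
  ([257,0,256,0], []),
  ([257,2,256,2], []),
  ([257,4,256,4], []),
  ([3,4,257,3,256,3,4,257,3,256], []),
  ([257,1,2,0,1,256,1,0,2,1,4], []),
  ([3,257,3,1,2,0,1,3,256,3,1,0,2,1,2,4,3,257,3,1,2,0,1,4,257], []),
  ([257,7,256,7], []),
  ([4,6,6,257,5,5,4,6,6,256,5,5], []),
  ([0,2,6,257,6,257,6,257], []),
  ([0,2,6,257,5,256,6,257,5,256,6,257,5,256,6,257,5,256], []),
  ([3,6,6,256,5,5,3,6,6,256,5,5,3,6,6,256,5,5,3,6,6,256,5,5,6,6,4,3,2,3,4,5,5,5,4,3,2,3,4,6,3,2,3,2,0], []),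
  ([27,29,0,7,25,28,256,25,20,7,4,257], []),
  ([19,21,19,28,22,256,29,257], [])]
noncomputable def lrels : List (List ℕ) := []
noncomputable abbrev rels0 : List (List ℕ × List ℤ) := ([], []) :: ([256, 257], []) :: rels
noncomputable def idx : List (ℕ × ℕ) := [(257, 2)]
noncomputable def fin : List ℕ := [0,1,2,3,4,5,6,7,8,9,10]
noncomputable def dl : List (ℕ × ℕ) := [(0,6044),(2,6045),(4,6046),(7,6047),(8,6048),(19,6049),(20,6050),(21,6051),(22,6052),(23,6053),(24,6054),(25,6055),(26,6056),(27,6057),(28,6058),(29,6059)]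
noncomputable def fo0 : ℕ → ℕ := (fun i => lk2 fo0T 0xffffffff (Nat.mul 32 i))
noncomputable def fo1 : ℕ → ℕ := (fun i => lk2 fo1T 0xffffffff (Nat.mul 32 i))
noncomputable def fo2 : ℕ → ℕ := (fun i => lk2 fo2T 0xffffffff (Nat.mul 32 i))
noncomputable def fo3 : ℕ → ℕ := (fun i => lk2 fo3T 0xffffffff (Nat.mul 32 i))
noncomputable def fo4 : ℕ → ℕ := (fun i => lk2 fo4T 0xffffffff (Nat.mul 32 i))
noncomputable def fo5 : ℕ → ℕ := (fun i => lk2 fo5T 0xffffffff (Nat.mul 32 i))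
noncomputable def fo6 : ℕ → ℕ := (fun i => lk2 fo6T 0xffffffff (Nat.mul 32 i))
noncomputable def fo7 : ℕ → ℕ := (fun i => lk2 fo7T 0xffffffff (Nat.mul 32 i))
noncomputable def fo8 : ℕ → ℕ := (fun i => lk2 fo8T 0xffffffff (Nat.mul 32 i))
noncomputable def fo9 : ℕ → ℕ := (fun i => lk2 fo9T 0xffffffff (Nat.mul 32 i))
noncomputable def fo10 : ℕ → ℕ := (fun i => lk2 fo10T 0xffffffff (Nat.mul 32 i))

end Cfsg.Agent.DC.Thb
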